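import Mathlib.Algebra.Homology.Double
import Mathlib.Algebra.Homology.HomologicalComplexLimits
import Mathlib.Algebra.Homology.HomologicalComplexAbelian
import Mathlib.Algebra.Homology.QuasiIso
import Mathlib.CategoryTheory.Abelian.CommSq
import Mathlib.CategoryTheory.Functor.OfSequence
import Mathlib.CategoryTheory.Limits.Constructions.EventuallyConstant
import Groth.Agent.H16Derived.KInjRes.Main

/-!
# Quasi-isomorphic modifications of complexes and eventually constant sequences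
-/

set_option autoImplicit false
set_option linter.style.haveILetI false

universe v u

open CategoryTheory CategoryTheory.Limits CochainComplex HomologicalComplex
open scoped ZeroObject

namespace Groth.Agent.H16Derived.Res

variable {A : Type u} [Category.{v} A] [Abelian A]

/-- A sequence of quasi-isomorphisms which is eventually constant in each degree has a limit
object quasi-isomorphic to its start. -/
theorem exists_colim_of_eventually_iso (F : ℕ → CochainComplex A ℤ) (s : ∀ n, F n ⟶ F (n + 1))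
    (hs : ∀ n, QuasiIso (s n)) (N : ℤ → ℕ) (hN : ∀ i n, N i ≤ n → IsIso ((s n).f i)) :
    ∃ (L : CochainComplex A ℤ) (g : F 0 ⟶ L), QuasiIso g ∧
      ∀ i n, N i ≤ n → Nonempty ((F n).X i ≅ L.X i) := by
  let G : ℕ ⥤ CochainComplex A ℤ := Functor.ofSequence s
  have hsucc : ∀ n, G.map (homOfLE (Nat.le_add_right n 1)) = s n :=
    Functor.ofSequence_map_homOfLE_succ s
  have hev : ∀ i n, N i ≤ n → (G ⋙ eval A _ i).IsEventuallyConstantFrom n := by
    intro i n hn m h
    obtain ⟨k, rfl⟩ := Nat.exists_eq_add_of_le (leOfHom h)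
    induction k with
    | zero =>
      obtain rfl : h = 𝟙 _ := Subsingleton.elim _ _
      infer_instance
    | succ k ih =>
      have e : h = homOfLE (Nat.le_add_right n k) ≫ homOfLE (Nat.le_add_right (n + k) 1) :=
        Subsingleton.elim _ _
      rw [e, Functor.map_comp]
      haveI := ih (homOfLE (Nat.le_add_right n k))
      haveI : IsIso ((G ⋙ eval A _ i).map (homOfLE (Nat.le_add_right (n + k) 1))) := by
        change IsIso ((G.map (homOfLE (Nat.le_add_right (n + k) 1))).f i)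
        rw [hsucc]; exact hN i _ (by omega)
      infer_instance
  haveI : ∀ i, HasColimit (G ⋙ eval A (ComplexShape.up ℤ) i) := fun i =>
    (hev i (N i) le_rfl).hasColimit
  let c := colimit.cocone G
  have hiso : ∀ i n, N i ≤ n → IsIso ((c.ι.app n).f i) := fun i n hn =>
    (hev i n hn).isIso_ι_of_isColimit (isColimitOfPreserves (eval A _ i) (colimit.isColimit G))
  refine ⟨c.pt, c.ι.app 0, ⟨fun i => ?_⟩, fun i n hn => ?_⟩
  · let n := max (max (N (i - 1)) (N i)) (N (i + 1))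
    have hq : ∀ m, QuasiIso (G.map (homOfLE (Nat.zero_le m))) := by
      intro m
      induction m with
      | zero =>
        rw [show homOfLE (Nat.zero_le 0) = 𝟙 0 from Subsingleton.elim _ _, G.map_id]
        infer_instance
      | succ m ih =>
        rw [show homOfLE (Nat.zero_le (m + 1)) = homOfLE (Nat.zero_le m) ≫ homOfLE (Nat.le_add_right m 1)
          from Subsingleton.elim _ _, G.map_comp, hsucc]
        exact quasiIso_comp (hφ := ih) (hφ' := hs m) _ _
    haveI : QuasiIsoAt (c.ι.app n) i := by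
      rw [quasiIsoAt_iff' _ (i - 1) i (i + 1) (by simp) (by simp)]
      let φ := (shortComplexFunctor' A (ComplexShape.up ℤ) (i - 1) i (i + 1)).map (c.ι.app n)
      haveI : IsIso φ.τ₁ := hiso (i - 1) n (by simp [n])
      haveI : IsIso φ.τ₂ := hiso i n (by simp [n])
      haveI : IsIso φ.τ₃ := hiso (i + 1) n (by simp [n])
      exact ShortComplex.quasiIso_of_epi_of_isIso_of_mono φ
    rw [← c.w (homOfLE (Nat.zero_le n))]
    exact quasiIsoAt_comp (hφ := (hq n).quasiIsoAt i) (hφ' := ‹QuasiIsoAt (c.ι.app n) i›) _ _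
  · haveI := hiso i n hn
    exact ⟨@asIso _ _ _ _ ((c.ι.app n).f i) (hiso i n hn)⟩

lemma acyclic_double_id (X : A) (p q : ℤ) (h : p + 1 = q) :
    (double (𝟙 X) (show (ComplexShape.up ℤ).Rel p q from h) : CochainComplex A ℤ).Acyclic := by
  subst h
  have hr : (ComplexShape.up ℤ).Rel p (p + 1) := rfl
  intro i
  change (double (𝟙 X) hr).ExactAt i
  by_cases h₀ : i = p
  · subst h₀
    rw [exactAt_iff' _ (i - 1) i (i + 1) (by simp) (by simp),
      ShortComplex.exact_iff_mono _ (double_d_eq_zero₀ (𝟙 X) hr (i - 1) i (by omega))]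
    change Mono ((double (𝟙 X) hr).d i (i + 1))
    rw [double_d _ _ (by omega)]
    infer_instance
  · by_cases h₁ : i = p + 1
    · subst h₁
      rw [exactAt_iff' _ p (p + 1) (p + 1 + 1) (by simp) (by simp),
        ShortComplex.exact_iff_epi _ (double_d_eq_zero₁ (𝟙 X) hr (p + 1) (p + 1 + 1) (by omega))]
      change Epi ((double (𝟙 X) hr).d p (p + 1))
      rw [double_d _ _ (by omega)]
      infer_instance
    · exact exactAt_of_isZero (double _ _) i (isZero_double_X _ _ i h₀ h₁)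
where
  exactAt_of_isZero (K : CochainComplex A ℤ) (i : ℤ) (h : IsZero (K.X i)) : K.ExactAt i :=
    ShortComplex.exact_of_isZero_X₂ _ h

/-- Replace the object of a complex in degree `p` by a bigger one, changing the degree `p + 1`
by pushout. -/
theorem exists_modify (M : CochainComplex A ℤ) (p : ℤ) {Y : A} (j : M.X p ⟶ Y) [Mono j] :
    ∃ (M' : CochainComplex A ℤ) (f : M ⟶ M'), QuasiIso f ∧
      (∀ i, i ≠ p → i ≠ p + 1 → IsIso (f.f i)) ∧ Nonempty (M'.X p ≅ Y) ∧
      ∃ S : ShortComplex A, S.ShortExact ∧ Nonempty (S.X₁ ≅ M.X p) ∧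
        Nonempty (S.X₂ ≅ M.X (p + 1) ⊞ Y) ∧ Nonempty (S.X₃ ≅ M'.X (p + 1)) := by
  have hr : (ComplexShape.up ℤ).Rel p (p + 1) := rfl
  have hne : p ≠ p + 1 := by omega
  let D : CochainComplex A ℤ := double (𝟙 (M.X p)) hr
  let E : CochainComplex A ℤ := double (𝟙 Y) hr
  let v : D ⟶ M := mkHomFromDouble hr hne (𝟙 _) (M.d p (p + 1)) (by simp) (fun k _ => M.d_comp_d _ _ _)
  let u : D ⟶ E := mkHomFromDouble hr hne (j ≫ (doubleXIso₀ (𝟙 Y) hr).inv)
    (j ≫ (doubleXIso₁ (𝟙 Y) hr hne).inv) (by simp [E, double_d _ _ hne])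
    (fun k hk => by rw [double_d_eq_zero₀ _ _ _ _ hne.symm, comp_zero])
  have hu : ∀ i, i ≠ p → i ≠ p + 1 → IsIso (u.f i) := fun i h₀ h₁ =>
    ⟨0, (isZero_double_X _ _ i h₀ h₁).eq_of_src _ _, (isZero_double_X _ _ i h₀ h₁).eq_of_src _ _⟩
  haveI : Mono u := by
    refine mono_of_mono_f _ fun i => ?_
    by_cases h₀ : i = p
    · subst h₀; simp only [u, mkHomFromDouble_f₀]; infer_instance
    · by_cases h₁ : i = p + 1
      · subst h₁; simp only [u, mkHomFromDouble_f₁]; infer_instance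
      · haveI := hu i h₀ h₁; infer_instance
  let M' : CochainComplex A ℤ := pushout v u
  let f : M ⟶ M' := pushout.inl v u
  let g : E ⟶ M' := pushout.inr v u
  have sq : IsPushout v u f g := IsPushout.of_hasPushout v u
  have sqi : ∀ i, IsPushout (v.f i) (u.f i) (f.f i) (g.f i) := fun i => sq.map (eval A _ i)
  haveI : Mono f := inferInstanceAs (Mono (pushout.inl v u))
  refine ⟨M', f, ?_, fun i h₀ h₁ => ?_, ?_, ?_⟩
  · refine KInjRes.quasiIso_of_mono f ?_
    have hc : (cokernel u).Acyclic := Lifting.acyclic_X₃ (KInjRes.shortExact_cokernel u)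
      (acyclic_double_id _ _ _ rfl) (acyclic_double_id _ _ _ rfl)
    let e : cokernel u ≅ cokernel f :=
      { hom := cokernel.map u f v g sq.w.symm
        inv := cokernel.desc f (sq.desc 0 (cokernel.π u) (by simp)) (sq.inl_desc _ _ _)
        hom_inv_id := by apply coequalizer.hom_ext; simp
        inv_hom_id := by
          apply coequalizer.hom_ext
          apply sq.hom_ext
          · simp
          · simp }
    exact fun i => ExactAt.of_iso (hc i) e
  · haveI := hu i h₀ h₁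
    exact (sqi i).isIso_inl_of_isIso
  · haveI : IsIso (v.f p) := by simp only [v, mkHomFromDouble_f₀]; infer_instance
    haveI : IsIso (g.f p) := (sqi p).isIso_inr_of_isIso
    exact ⟨(asIso (g.f p)).symm ≪≫ doubleXIso₀ (𝟙 Y) hr⟩
  · haveI : Mono (u.f (p + 1)) := by simp only [u, mkHomFromDouble_f₁]; infer_instance
    refine ⟨(sqi (p + 1)).shortComplex, ?_, ⟨doubleXIso₁ (𝟙 (M.X p)) hr hne⟩,
      ⟨biprod.mapIso (Iso.refl _) (doubleXIso₁ (𝟙 Y) hr hne)⟩, ⟨Iso.refl _⟩⟩
    refine { exact := (sqi (p + 1)).exact_shortComplex, mono_f := ?_, epi_g := (sqi (p + 1)).epi_shortComplex_g }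
    refine Preadditive.mono_of_cancel_zero _ fun {W} (x : W ⟶ D.X (p + 1)) hx => ?_
    have h := hx =≫ (biprod.snd : M.X (p + 1) ⊞ E.X (p + 1) ⟶ _)
    rw [zero_comp, Category.assoc] at h
    change x ≫ biprod.lift (v.f (p + 1)) (-u.f (p + 1)) ≫ biprod.snd = 0 at h
    rw [biprod.lift_snd] at h
    have h := neg_eq_zero.1 ((Preadditive.comp_neg x (u.f (p + 1))).symm.trans h)
    exact (cancel_mono (u.f (p + 1))).1 (h.trans zero_comp.symm)

section dim

variable (d : A → ℕ∞) (hiso : ∀ ⦃X Y : A⦄, Nonempty (X ≅ Y) → d X = d Y)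
  (h1 : ∀ X : A, ∃ (Y : A) (ι : X ⟶ Y), Mono ι ∧ d Y = 0)
  (h2 : ∀ X Y : A, d (X ⊞ Y) ≤ max (d X) (d Y))
  (h3 : ∀ S : ShortComplex A, S.ShortExact → d S.X₃ ≤ max (d S.X₁ - 1) (d S.X₂))

include hiso h1 in
lemma exists_qis_ge (a : ℤ) (K : CochainComplex A ℤ) :
    ∃ (L : CochainComplex A ℤ) (g : K ⟶ L), QuasiIso g ∧ (∀ i, a ≤ i → d (L.X i) = 0) ∧
      ∀ i, i < a → Nonempty (K.X i ≅ L.X i) := by
  have step : ∀ (M : CochainComplex A ℤ) (p : ℤ), ∃ (M' : CochainComplex A ℤ) (f : M ⟶ M'),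
      QuasiIso f ∧ (∀ i, i ≠ p → i ≠ p + 1 → IsIso (f.f i)) ∧ d (M'.X p) = 0 := by
    intro M p
    obtain ⟨Y, j, hj, hY⟩ := h1 (M.X p)
    obtain ⟨M', f, hf, hfi, he, -⟩ := exists_modify M p j
    exact ⟨M', f, hf, hfi, (hiso he).trans hY⟩
  choose M' f hf hfi hd using step
  let F : ℕ → CochainComplex A ℤ := fun n => Nat.rec K (fun n M => M' M (a + n)) n
  let s : ∀ n, F n ⟶ F (n + 1) := fun n => f (F n) (a + n)
  obtain ⟨L, g, hg, hL⟩ := exists_colim_of_eventually_iso F s (fun n => hf _ _)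
    (fun i => (i - a + 1).toNat) (fun i n hn => hfi _ _ _ (by omega) (by omega))
  refine ⟨L, g, hg, fun i hi => ?_, fun i hi => hL i 0 (by omega)⟩
  obtain ⟨k, rfl⟩ : ∃ k : ℕ, i = a + k := ⟨(i - a).toNat, by omega⟩
  rw [← hiso (hL (a + k) (k + 1) (by omega))]
  exact hd _ _

include hiso h1 in
lemma exists_qis_nonneg (K : CochainComplex A ℤ) :
    ∃ (L : CochainComplex A ℤ) (g : K ⟶ L), QuasiIso g ∧ (∀ i, 0 ≤ i → d (L.X i) = 0) ∧
      ∀ i, i < 0 → Nonempty (K.X i ≅ L.X i) :=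
  exists_qis_ge d hiso h1 0 K

include hiso h1 h2 h3 in
lemma exists_qis_step : ∀ (k : ℕ) (M : CochainComplex A ℤ) (p : ℤ), d (M.X p) ≤ k →
    (∀ i, p < i → d (M.X i) = 0) → ∃ (M' : CochainComplex A ℤ) (f : M ⟶ M'), QuasiIso f ∧
      (∀ i, i < p ∨ p + k < i → IsIso (f.f i)) ∧ ∀ i, p ≤ i → d (M'.X i) = 0
  | 0, M, p, hp, hM => ⟨M, 𝟙 M, inferInstance, fun _ _ => inferInstance, fun i hi => by
      rcases eq_or_lt_of_le hi with rfl | h
      · simpa using hp
      · exact hM i h⟩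
  | k + 1, M, p, hp, hM => by
    obtain ⟨Y, j, hj, hY⟩ := h1 (M.X p)
    obtain ⟨M₁, f₁, hf₁, hfi₁, he, S, hS, ⟨e₁⟩, ⟨e₂⟩, ⟨e₃⟩⟩ := exists_modify M p j
    have hk : d (M₁.X (p + 1)) ≤ k := by
      rw [← hiso ⟨e₃⟩]
      refine (h3 S hS).trans (max_le ?_ ?_)
      · rw [hiso ⟨e₁⟩, tsub_le_iff_right]; simpa using hp
      · rw [hiso ⟨e₂⟩]
        refine (h2 _ _).trans ?_
        rw [hY, hM (p + 1) (by omega)]
        simp
    have hM₁ : ∀ i, p + 1 < i → d (M₁.X i) = 0 := fun i hi => by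
      haveI := hfi₁ i (by omega) (by omega)
      rw [← hiso ⟨asIso (f₁.f i)⟩]
      exact hM i (by omega)
    obtain ⟨M', f, hf, hfi, hd⟩ := exists_qis_step k M₁ (p + 1) hk hM₁
    refine ⟨M', f₁ ≫ f, inferInstance, fun i hi => ?_, fun i hi => ?_⟩
    · haveI := hfi₁ i (by omega) (by omega)
      haveI := hfi i (by omega)
      rw [HomologicalComplex.comp_f]; infer_instance
    · rcases eq_or_lt_of_le hi with rfl | h
      · haveI := hfi p (by omega)
        exact (hiso ⟨(asIso (f.f p)).symm⟩).trans ((hiso he).trans hY)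
      · exact hd i (by omega)

include hiso h1 h2 h3 in
theorem exists_qis_dim_zero (K : CochainComplex A ℤ) (hfin : ∀ n : ℤ, d (K.X n) ≠ ⊤)
    (hK : ∀ m : ℤ, ∃ N : ℤ, ∀ n : ℤ, n ≤ N → ∃ k : ℕ, d (K.X n) = k ∧ n + k ≤ m) :
    ∃ (L : CochainComplex A ℤ) (f : K ⟶ L), QuasiIso f ∧ ∀ n, d (L.X n) = 0 := by
  obtain ⟨M₀, g₀, hg₀, hpos, hneg⟩ := exists_qis_nonneg d hiso h1 K
  let e : ℕ → ℤ := fun n => -(n : ℤ) - 1
  let St : ℕ → Type (max u v) := fun n =>
    {M : CochainComplex A ℤ // (∀ i, -(n : ℤ) ≤ i → d (M.X i) = 0) ∧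
      ∀ i, i < -(n : ℤ) → Nonempty (K.X i ≅ M.X i)}
  have step : ∀ (n : ℕ) (M : St n), ∃ (M' : St (n + 1)) (f : M.1 ⟶ M'.1), QuasiIso f ∧
      ∀ i, i < e n ∨ e n + (d (K.X (e n))).toNat < i → IsIso (f.f i) := by
    intro n ⟨M, hM, hMi⟩
    have hk : d (M.X (e n)) ≤ ((d (K.X (e n))).toNat : ℕ) := by
      rw [← hiso (hMi (e n) (by simp [e])), ENat.natCast_toNat (hfin _)]
    obtain ⟨M', f, hf, hfi, hd⟩ := exists_qis_step d hiso h1 h2 h3 _ M (e n) hk
      fun i hi => hM i (by simp [e] at hi; omega)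
    refine ⟨⟨M', fun i hi => hd i (by simp [e]; omega), fun i hi => ?_⟩, f, hf, hfi⟩
    haveI := hfi i (Or.inl (by simp [e]; omega))
    exact ⟨(hMi i (by omega)).some ≪≫ asIso (f.f i)⟩
  choose M' f hf hfi using step
  let F : ∀ n, St n := fun n => Nat.rec ⟨M₀, fun i hi => hpos i (by simpa using hi),
    fun i hi => hneg i (by simpa using hi)⟩ M' n
  choose N₀ hN₀ using hK
  obtain ⟨L, g, hg, hL⟩ := exists_colim_of_eventually_iso (fun n => (F n).1) (fun n => f n (F n))
    (fun n => hf _ _) (fun i => max (-i).toNat (-(N₀ (i - 1))).toNat) (fun i n hn => by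
      refine hfi n (F n) i (Or.inr ?_)
      obtain ⟨k, hk, hle⟩ := hN₀ (i - 1) (e n) (by simp [e]; omega)
      rw [hk, ENat.toNat_natCast]
      omega)
  refine ⟨L, g₀ ≫ g, inferInstance, fun i => ?_⟩
  rw [← hiso (hL i _ le_rfl)]
  exact (F _).2.1 i (by omega)

end dim

end Groth.Agent.H16Derived.Res
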