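import Mathlib.Algebra.Homology.HomotopyCategory.Pretriangulated
import Mathlib.Algebra.Homology.HomotopyCategory.ShiftSequence
import Mathlib.Algebra.Homology.DerivedCategory.ShortExact
import Mathlib.Algebra.Homology.DerivedCategory.Fractions
import Mathlib.CategoryTheory.Abelian.Refinements
import Groth.Agent.H16Derived.AcyclicLES
import Groth.Agent.H16Derived.KInjRes.Main

/-!
# Splicing quasi-isomorphisms along short exact sequences
-/

set_option autoImplicit false
set_option linter.style.haveILetI false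

universe v u

open CategoryTheory CategoryTheory.Limits CategoryTheory.Pretriangulated CochainComplex
open scoped ZeroObject

namespace Groth.Agent.H16Derived.Res

variable {A : Type u} [Category.{v} A] [Abelian A]

section map

variable {K₁ L₁ K₂ L₂ : CochainComplex A ℤ} (φ₁ : K₁ ⟶ L₁) (φ₂ : K₂ ⟶ L₂) (a : K₁ ⟶ K₂)
  (b : L₁ ⟶ L₂) (comm : φ₁ ≫ b = a ≫ φ₂)

@[reassoc]
lemma inl_v_map_f (p q : ℤ) (h : p + (-1) = q) :
    (mappingCone.inl φ₁).v p q h ≫ (mappingCone.map φ₁ φ₂ a b comm).f q =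
      a.f p ≫ (mappingCone.inl φ₂).v p q h := by
  simp [mappingCone.map]

@[reassoc]
lemma inr_f_map_f (p : ℤ) :
    (mappingCone.inr φ₁).f p ≫ (mappingCone.map φ₁ φ₂ a b comm).f p =
      b.f p ≫ (mappingCone.inr φ₂).f p := by
  simp [mappingCone.map]

@[reassoc]
lemma map_f_fst_v (p q : ℤ) (h : p + 1 = q) :
    (mappingCone.map φ₁ φ₂ a b comm).f p ≫ (mappingCone.fst φ₂).1.v p q h =
      (mappingCone.fst φ₁).1.v p q h ≫ a.f q := by
  apply mappingCone.ext_from φ₁ q p h
  · rw [inl_v_map_f_assoc]; simp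
  · rw [inr_f_map_f_assoc]; simp

@[reassoc]
lemma map_f_snd_v (p : ℤ) :
    (mappingCone.map φ₁ φ₂ a b comm).f p ≫ (mappingCone.snd φ₂).v p p (add_zero p) =
      (mappingCone.snd φ₁).v p p (add_zero p) ≫ b.f p := by
  apply mappingCone.ext_from φ₁ (p + 1) p rfl
  · rw [inl_v_map_f_assoc]; simp
  · rw [inr_f_map_f_assoc]; simp

end map

/-- A morphism of arrows which is a pair of quasi-isomorphisms gives a quasi-isomorphism of cones. -/
theorem quasiIso_map_of_quasiIso {K₁ L₁ K₂ L₂ : CochainComplex A ℤ} (φ₁ : K₁ ⟶ L₁) (φ₂ : K₂ ⟶ L₂)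
    (a : K₁ ⟶ K₂) (b : L₁ ⟶ L₂) (comm : φ₁ ≫ b = a ≫ φ₂) [QuasiIso a] [QuasiIso b] :
    QuasiIso (mappingCone.map φ₁ φ₂ a b comm) := by
  letI := HasDerivedCategory.standard A
  let f := mappingCone.triangleMap φ₁ φ₂ a b comm
  haveI : IsIso (DerivedCategory.Q.map a) := by
    rw [DerivedCategory.isIso_Q_map_iff_quasiIso]; infer_instance
  haveI : IsIso (DerivedCategory.Q.map b) := by
    rw [DerivedCategory.isIso_Q_map_iff_quasiIso]; infer_instance
  rw [← DerivedCategory.isIso_Q_map_iff_quasiIso]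
  exact isIso₃_of_isIso₁₂ (DerivedCategory.Q.mapTriangle.map f)
    (DerivedCategory.mappingCone_triangle_distinguished φ₁)
    (DerivedCategory.mappingCone_triangle_distinguished φ₂)
    (inferInstanceAs (IsIso (DerivedCategory.Q.map a)))
    (inferInstanceAs (IsIso (DerivedCategory.Q.map b)))

/-- The cone of zero on a short exact sequence compares with the cone of its quotient map. -/
theorem quasiIso_map_cone {S : ShortComplex (CochainComplex A ℤ)} (hS : S.ShortExact) :
    QuasiIso (mappingCone.map (0 : S.X₁ ⟶ (0 : CochainComplex A ℤ)) S.g S.f 0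
      (by rw [zero_comp, S.zero])) := by
  let α := mappingCone.map (0 : S.X₁ ⟶ (0 : CochainComplex A ℤ)) S.g S.f 0 (by rw [zero_comp, S.zero])
  let β := mappingCone.map S.g (𝟙 S.X₃) S.g (𝟙 S.X₃) rfl
  have hz : α ≫ β = 0 := by
    refine HomologicalComplex.hom_ext _ _ fun p => ?_
    apply mappingCone.ext_from _ (p + 1) p rfl
    · simp only [α, β, HomologicalComplex.comp_f, inl_v_map_f_assoc, inl_v_map_f,
        HomologicalComplex.zero_f, comp_zero]
      rw [← Category.assoc, ← HomologicalComplex.comp_f, S.zero]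
      exact zero_comp
    · have h0 : IsZero ((0 : CochainComplex A ℤ).X p) :=
        (HomologicalComplex.eval A (ComplexShape.up ℤ) p).map_isZero (isZero_zero _)
      exact h0.eq_of_src _ _
  let T : ShortComplex (CochainComplex A ℤ) := ShortComplex.mk α β hz
  have hp : ∀ p, (S.map (HomologicalComplex.eval A (ComplexShape.up ℤ) p)).ShortExact := fun p =>
    hS.map_of_exact _
  have hT : T.ShortExact := HomologicalComplex.shortExact_of_degreewise_shortExact _ fun p => by
    have h0 : IsZero ((0 : CochainComplex A ℤ).X p) :=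
      (HomologicalComplex.eval A (ComplexShape.up ℤ) p).map_isZero (isZero_zero _)
    haveI : Mono (α.f p) := Preadditive.mono_of_cancel_zero _ fun {W} x hx => by
      apply mappingCone.ext_to _ p (p + 1) rfl
      · haveI : Mono (S.f.f (p + 1)) := (hp (p + 1)).mono_f
        rw [zero_comp, ← cancel_mono (S.f.f (p + 1)), zero_comp, Category.assoc]
        have := hx =≫ (mappingCone.fst S.g).1.v p (p + 1) rfl
        rw [Category.assoc, map_f_fst_v, zero_comp] at this
        exact this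
      · exact h0.eq_of_tgt _ _
    haveI : Epi (β.f p) := Preadditive.epi_of_cancel_zero _ fun {W} x hx => by
      apply mappingCone.ext_from _ (p + 1) p rfl
      · haveI : Epi (S.g.f (p + 1)) := (hp (p + 1)).epi_g
        rw [comp_zero, ← cancel_epi (S.g.f (p + 1)), comp_zero, ← inl_v_map_f_assoc S.g (𝟙 _) S.g (𝟙 _) rfl,
          hx, comp_zero]
      · rw [comp_zero]
        have := (mappingCone.inr S.g).f p ≫= hx
        rw [inr_f_map_f_assoc, comp_zero] at this
        simpa using this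
    refine { exact := ?_, mono_f := ‹Mono (α.f p)›, epi_g := ‹Epi (β.f p)› }
    rw [ShortComplex.exact_iff_exact_up_to_refinements]
    intro W x hx
    change W ⟶ (mappingCone S.g).X p at x
    change x ≫ β.f p = 0 at hx
    have h₁ : (x ≫ (mappingCone.fst S.g).1.v p (p + 1) rfl) ≫ S.g.f (p + 1) = 0 := by
      have := hx =≫ (mappingCone.fst (𝟙 S.X₃)).1.v p (p + 1) rfl
      rw [Category.assoc, map_f_fst_v, zero_comp] at this
      rwa [Category.assoc]
    have h₂ : x ≫ (mappingCone.snd S.g).v p p (add_zero p) = 0 := by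
      have := hx =≫ (mappingCone.snd (𝟙 S.X₃)).v p p (add_zero p)
      rw [Category.assoc, map_f_snd_v, zero_comp] at this
      simpa using this
    obtain ⟨l, hl⟩ : ∃ l : W ⟶ S.X₁.X (p + 1), l ≫ S.f.f (p + 1) =
        x ≫ (mappingCone.fst S.g).1.v p (p + 1) rfl :=
      haveI := (hp (p + 1)).mono_f
      ⟨(hp (p + 1)).exact.lift _ h₁, (hp (p + 1)).exact.lift_f _ h₁⟩
    suffices h : ∃ y : W ⟶ (mappingCone (0 : S.X₁ ⟶ (0 : CochainComplex A ℤ))).X p, x = y ≫ α.f p from
      ⟨W, 𝟙 W, inferInstance, h.choose, (Category.id_comp x).trans h.choose_spec⟩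
    refine ⟨l ≫ (mappingCone.inl _).v (p + 1) p (by omega), ?_⟩
    apply mappingCone.ext_to _ p (p + 1) rfl
    · simp [α, inl_v_map_f_assoc, hl]
    · simp [α, inl_v_map_f_assoc, h₂]
  have hac : T.X₃.Acyclic := (AcyclicLES.quasiIso_iff_acyclic_mappingCone (𝟙 S.X₃)).1 inferInstance
  haveI := hT.mono_f
  exact KInjRes.quasiIso_of_mono α fun i => HomologicalComplex.ExactAt.of_iso (hac i)
    (IsColimit.coconePointUniqueUpToIso hT.gIsCokernel (colimit.isColimit _))

/-- Splice `0 ⟶ K ⟶ I ⟶ K' ⟶ 0` with a quasi-isomorphism out of `K'`. -/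
theorem exists_splice {S : ShortComplex (CochainComplex A ℤ)} (hS : S.ShortExact)
    {L : CochainComplex A ℤ} (f : S.X₃ ⟶ L) [QuasiIso f] :
    ∃ (M : CochainComplex A ℤ) (h : S.X₁ ⟶ M), QuasiIso h ∧
      ∀ p, Nonempty (M.X p ≅ S.X₂.X p ⊞ L.X (p - 1)) := by
  let z : S.X₁ ⟶ (0 : CochainComplex A ℤ) := 0
  have hz : IsIso (mappingCone.triangle z).mor₃ := by
    haveI : ∀ p, IsIso ((mappingCone.triangle z).mor₃.f p) := fun p => by
      have h0 : IsZero ((0 : CochainComplex A ℤ).X p) :=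
        (HomologicalComplex.eval A (ComplexShape.up ℤ) p).map_isZero (isZero_zero _)
      have e : (mappingCone.triangle z).mor₃.f p = -(mappingCone.fst z).1.v p (p + 1) rfl := by
        simp [mappingCone.triangle, HomComplex.Cochain.rightShift_v]
        exact congrArg (- ·) (Category.comp_id _)
      let i₀ : S.X₁.X (p + 1) ⟶ (mappingCone z).X p := (mappingCone.inl z).v (p + 1) p (by omega)
      let f₀ : (mappingCone z).X p ⟶ S.X₁.X (p + 1) := (mappingCone.fst z).1.v p (p + 1) rfl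
      have h₁ : f₀ ≫ i₀ = 𝟙 _ := by
        apply mappingCone.ext_to _ p (p + 1) rfl
        · simp [f₀, i₀]
        · exact h0.eq_of_tgt _ _
      have h₂ : i₀ ≫ f₀ = 𝟙 _ := mappingCone.inl_v_fst_v _ _ _ _
      haveI : IsIso f₀ := ⟨i₀, h₁, h₂⟩
      rw [e]
      exact (⟨-i₀, (Preadditive.neg_comp_neg _ _).trans h₁, (Preadditive.neg_comp_neg _ _).trans h₂⟩ : IsIso (-f₀))
    exact HomologicalComplex.Hom.isIso_of_components _
  let u := @inv _ _ _ _ (mappingCone.triangle z).mor₃ hz
  let v₁ := mappingCone.map z S.g S.f 0 (by rw [zero_comp, S.zero])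
  let v₂ := mappingCone.map S.g (S.g ≫ f) (𝟙 _) f (Category.id_comp _).symm
  let φ : S.X₁⟦(1 : ℤ)⟧ ⟶ mappingCone (S.g ≫ f) := u ≫ v₁ ≫ v₂
  have h₁ : QuasiIso v₁ := quasiIso_map_cone hS
  have h₂ : QuasiIso v₂ := quasiIso_map_of_quasiIso S.g (S.g ≫ f) (𝟙 _) f (Category.id_comp _).symm
  haveI : IsIso u := inferInstance
  haveI : QuasiIso φ :=
    quasiIso_comp (hφ := inferInstance) (hφ' := quasiIso_comp (hφ := h₁) (hφ' := h₂) v₁ v₂) u (v₁ ≫ v₂)
  refine ⟨(mappingCone (S.g ≫ f))⟦(-1 : ℤ)⟧,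
    (shiftFunctorCompIsoId (CochainComplex A ℤ) (1 : ℤ) (-1) (by omega)).inv.app S.X₁ ≫ φ⟦(-1 : ℤ)⟧', ?_,
    fun p => ⟨?_⟩⟩
  · haveI : QuasiIso (φ⟦(-1 : ℤ)⟧') := (quasiIso_shift_iff φ (-1)).2 inferInstance
    infer_instance
  · exact ((HomologicalComplex.eval A (ComplexShape.up ℤ) (p + -1))).mapIso (Iso.refl (mappingCone (S.g ≫ f))) ≪≫
      HomologicalComplex.homotopyCofiber.XIsoBiprod (S.g ≫ f) (p + -1) p (show p + -1 + 1 = p by omega) ≪≫
      biprod.mapIso (Iso.refl _) (L.XIsoOfEq (by omega))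

end Groth.Agent.H16Derived.Res
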