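import Mathlib.Algebra.Homology.HomotopyCategory.MappingCocone
import Groth.Agent.H16Derived.Res.Splice

/-!
# Splicing along a short exact sequence, keeping track of the projection
-/

set_option autoImplicit false
set_option linter.style.haveILetI false

universe v u

open CategoryTheory CategoryTheory.Limits CategoryTheory.Pretriangulated CochainComplex HomologicalComplex

namespace Groth.Agent.H16Derived.Res

variable {A : Type u} [Category.{v} A] [Abelian A]

section

variable {K L K' L' : CochainComplex A ℤ} (φ : K ⟶ L) (φ' : K' ⟶ L') (a : K ⟶ K') (b : L ⟶ L')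
  (comm : φ ≫ b = a ≫ φ')

/-- Functoriality of the mapping cocone. -/
noncomputable def coconeMap : mappingCocone φ ⟶ mappingCocone φ' :=
  (mappingCone.map φ φ' a b comm)⟦(-1 : ℤ)⟧'

@[reassoc]
lemma coconeMap_f_fst (p : ℤ) :
    (coconeMap φ φ' a b comm).f p ≫ (mappingCocone.fst φ').f p = (mappingCocone.fst φ).f p ≫ a.f p := by
  simp [coconeMap, mappingCocone.fst, mappingCocone,
    HomComplex.Cochain.leftShift_v (n := 1) _ _ _ _ _ p _ (p + -1) (by omega)]
  erw [neg_neg, neg_neg, Category.id_comp, Category.id_comp]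
  exact map_f_fst_v φ φ' a b comm (p + -1) p (by omega)

@[reassoc]
lemma coconeMap_f_snd (p q : ℤ) (h : p + -1 = q) :
    (coconeMap φ φ' a b comm).f p ≫ (mappingCocone.snd φ').v p q h =
      (mappingCocone.snd φ).v p q h ≫ b.f q := by
  subst h
  simp [coconeMap, mappingCocone.snd, mappingCocone,
    HomComplex.Cochain.leftShift_v _ _ _ _ _ _ _ _ (add_zero (p + -1)), Int.negOnePow_even 2 ⟨1, rfl⟩]
  erw [Category.id_comp, Category.id_comp]
  exact map_f_snd_v φ φ' a b comm (p + -1)

lemma acyclic_mappingCocone [QuasiIso φ] : (mappingCocone φ).Acyclic := by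
  letI := HasDerivedCategory.standard A
  have h := DerivedCategory.mappingCone_triangle_distinguished φ
  intro i
  have h0 : IsZero ((mappingCone φ).homology (i - 1)) :=
    (HomologicalComplex.exactAt_iff_isZero_homology _ _).1
      ((AcyclicLES.quasiIso_iff_acyclic_mappingCone φ).1 inferInstance (i - 1))
  rw [HomologicalComplex.exactAt_iff_isZero_homology]
  exact h0.of_iso (((HomologicalComplex.homologyFunctor A (ComplexShape.up ℤ) 0).shiftIso
    (-1) i (i - 1) (by omega)).app (mappingCone φ))

lemma mappingCocone_hom_ext {W : A} {p : ℤ} {x y : W ⟶ (mappingCocone φ).X p}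
    (h₁ : x ≫ (mappingCocone.fst φ).f p = y ≫ (mappingCocone.fst φ).f p)
    (h₂ : x ≫ (mappingCocone.snd φ).v p (p + -1) rfl = y ≫ (mappingCocone.snd φ).v p (p + -1) rfl) :
    x = y := by
  rw [← Category.comp_id x, ← Category.comp_id y, ← mappingCocone.id_X φ p (p + -1) rfl,
    Preadditive.comp_add, Preadditive.comp_add, reassoc_of% h₁, reassoc_of% h₂]

end

/-- The comparison map from the first object of a short exact sequence to the cocone of the
quotient map composed with a quasi-isomorphism. -/
theorem exists_splice_proj {S : ShortComplex (CochainComplex A ℤ)} (hS : S.ShortExact)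
    {L : CochainComplex A ℤ} (f : S.X₃ ⟶ L) [QuasiIso f] :
    ∃ h : S.X₁ ⟶ mappingCocone (S.g ≫ f), QuasiIso h ∧ h ≫ mappingCocone.fst (S.g ≫ f) = S.f := by
  let ψ := S.g ≫ f
  let h : S.X₁ ⟶ mappingCocone ψ := mappingCocone.lift ψ S.f 0
    (by simp only [ψ, S.zero_assoc, zero_comp, HomComplex.δ_zero, HomComplex.Cochain.ofHom_zero, add_zero])
  have h₁ : ∀ p, h.f p ≫ (mappingCocone.fst ψ).f p = S.f.f p := fun p => by simp [h]
  have h₂ : ∀ p, h.f p ≫ (mappingCocone.snd ψ).v p (p + -1) rfl = 0 := fun p => by simp [h]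
  let β : mappingCocone ψ ⟶ mappingCocone f := coconeMap ψ f S.g (𝟙 L) (Category.comp_id _)
  have hz : h ≫ β = 0 := by
    refine HomologicalComplex.hom_ext _ _ fun p => ?_
    apply mappingCocone_hom_ext
    · rw [HomologicalComplex.comp_f, Category.assoc, coconeMap_f_fst, reassoc_of% (h₁ p),
        ← HomologicalComplex.comp_f, S.zero]
      simp
    · rw [HomologicalComplex.comp_f, Category.assoc, coconeMap_f_snd, reassoc_of% (h₂ p)]
      simp
  let T : ShortComplex (CochainComplex A ℤ) := ShortComplex.mk h β hz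
  have hp : ∀ p, (S.map (HomologicalComplex.eval A (ComplexShape.up ℤ) p)).ShortExact := fun p =>
    hS.map_of_exact _
  have hT : T.ShortExact := HomologicalComplex.shortExact_of_degreewise_shortExact _ fun p => by
    haveI : Mono (S.f.f p) := (hp p).mono_f
    haveI : Mono (h.f p) := mono_of_mono_fac (h₁ p)
    haveI : Epi (β.f p) := Preadditive.epi_of_cancel_zero _ fun {W} x hx => by
      haveI : Epi (S.g.f p) := (hp p).epi_g
      have e₁ : (mappingCocone.inl ψ).v p p (add_zero p) ≫ β.f p =
          S.g.f p ≫ (mappingCocone.inl f).v p p (add_zero p) := by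
        apply mappingCocone_hom_ext
        · simp [β, coconeMap_f_fst]
        · simp [β, coconeMap_f_snd]
      have e₂ : (mappingCocone.inr ψ).1.v (p + -1) p (by omega) ≫ β.f p =
          (mappingCocone.inr f).1.v (p + -1) p (by omega) := by
        apply mappingCocone_hom_ext
        · simp [β, coconeMap_f_fst]
        · simp [β, coconeMap_f_snd]
      have a₁ : (mappingCocone.inl f).v p p (add_zero p) ≫ x = 0 := by
        rw [← cancel_epi (S.g.f p), comp_zero, ← reassoc_of% e₁, hx, comp_zero]
      have a₂ : (mappingCocone.inr f).1.v (p + -1) p (by omega) ≫ x = 0 := by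
        rw [← e₂, Category.assoc, hx, comp_zero]
      rw [← Category.id_comp x, ← mappingCocone.id_X f p (p + -1) rfl]
      simp [a₁, a₂]
    refine { exact := ?_, mono_f := ‹Mono (h.f p)›, epi_g := ‹Epi (β.f p)› }
    rw [ShortComplex.exact_iff_exact_up_to_refinements]
    intro W x hx
    change W ⟶ (mappingCocone ψ).X p at x
    change x ≫ β.f p = 0 at hx
    have k₁ : (x ≫ (mappingCocone.fst ψ).f p) ≫ S.g.f p = 0 := by
      have := hx =≫ (mappingCocone.fst f).f p
      rwa [Category.assoc, coconeMap_f_fst, zero_comp, ← Category.assoc] at this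
    have k₂ : x ≫ (mappingCocone.snd ψ).v p (p + -1) rfl = 0 := by
      have := hx =≫ (mappingCocone.snd f).v p (p + -1) rfl
      rw [Category.assoc, coconeMap_f_snd, zero_comp] at this
      simpa using this
    obtain ⟨l, hl⟩ : ∃ l : W ⟶ S.X₁.X p, l ≫ S.f.f p = x ≫ (mappingCocone.fst ψ).f p :=
      haveI := (hp p).mono_f
      ⟨(hp p).exact.lift _ k₁, (hp p).exact.lift_f _ k₁⟩
    refine ⟨W, 𝟙 W, inferInstance, l, ?_⟩
    rw [Category.id_comp]
    apply mappingCocone_hom_ext
    · exact (hl.symm).trans ((Category.assoc _ _ _).trans (congrArg (l ≫ ·) (h₁ p))).symm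
    · exact k₂.trans (((Category.assoc _ _ _).trans ((congrArg (l ≫ ·) (h₂ p)).trans comp_zero)).symm)
  haveI := hT.mono_f
  exact ⟨h, KInjRes.quasiIso_of_mono h fun i => HomologicalComplex.ExactAt.of_iso
      (acyclic_mappingCocone f i)
      (IsColimit.coconePointUniqueUpToIso hT.gIsCokernel (colimit.isColimit _)),
    mappingCocone.lift_fst _ _ _ _⟩

end Groth.Agent.H16Derived.Res
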