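import Groth.Agent.H16Derived.Res.Splice

/-!
# Resolutions of unbounded complexes by a class of objects
-/

set_option autoImplicit false
set_option linter.style.haveILetI false

universe v u

open CategoryTheory CategoryTheory.Limits CochainComplex

namespace Groth.Agent.H16Derived.Res

variable {A : Type u} [Category.{v} A] [Abelian A]

/-- The contractible complex on a family of objects. -/
noncomputable def contr (Y : ℤ → A) : CochainComplex A ℤ :=
  CochainComplex.of (fun i => Y i ⊞ Y (i + 1)) (fun _ => biprod.snd ≫ biprod.inl) (fun _ => by simp)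

variable (P : A → Prop) (hemb : ∀ X : A, ∃ (Y : A) (i : X ⟶ Y), P Y ∧ Mono i)
  (hbi : ∀ X Y : A, P X → P Y → P (X ⊞ Y))

include hemb hbi in
/-- Every complex embeds into a complex with terms in `P`. -/
theorem exists_mono (K : CochainComplex A ℤ) :
    ∃ (I : CochainComplex A ℤ) (ι : K ⟶ I), Mono ι ∧ ∀ p, P (I.X p) := by
  choose Y i hY hi using fun p : ℤ => hemb (K.X p)
  let ι : K ⟶ contr Y :=
    { f := fun p => biprod.lift (i p) (K.d p (p + 1) ≫ i (p + 1))
      comm' := fun p q hpq => by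
        obtain rfl : p + 1 = q := hpq
        simp only [contr, CochainComplex.of_d]
        apply biprod.hom_ext
        · simp
        · simp }
  haveI : ∀ p, Mono (ι.f p) := fun p =>
    haveI := hi p
    mono_of_mono_fac (show ι.f p ≫ biprod.fst = i p from biprod.lift_fst _ _)
  exact ⟨contr Y, ι, HomologicalComplex.mono_of_mono_f _ inferInstance, fun p => hbi _ _ (hY p) (hY (p + 1))⟩

variable (hiso : ∀ {X Y : A}, (X ≅ Y) → P X → P Y) (n : ℕ)
  (htop : ∀ K : CochainComplex A ℕ, (∀ i : ℕ, 1 ≤ i → i ≤ n → K.ExactAt i) →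
    (∀ i : ℕ, n < i → IsZero (K.X i)) → Epi (K.d (n - 1) n) → (∀ i : ℕ, i < n → P (K.X i)) → P (K.X n))

include hemb hbi hiso htop in
/-- Every complex maps quasi-isomorphically to a complex with terms in `P`. -/
theorem exists_quasiIso (hn : 1 ≤ n) (X : CochainComplex A ℤ) :
    ∃ (L : CochainComplex A ℤ) (f : X ⟶ L), QuasiIso f ∧ ∀ p, P (L.X p) := by
  classical
  choose I₀ ι₀ hι₀ hI₀ using exists_mono P hemb hbi
  let emb : ℕ → ∀ K : CochainComplex A ℤ, Σ' I : CochainComplex A ℤ, K ⟶ I := fun j K =>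
    if j < n then ⟨I₀ K, ι₀ K⟩ else ⟨K, 𝟙 K⟩
  let Ks : ℕ → CochainComplex A ℤ := fun j =>
    Nat.rec (motive := fun _ => CochainComplex A ℤ) X (fun j K => cokernel (emb j K).2) j
  let Is : ℕ → CochainComplex A ℤ := fun j => (emb j (Ks j)).1
  let ι : ∀ j, Ks j ⟶ Is j := fun j => (emb j (Ks j)).2
  let π₀ : ∀ j : ℕ, Is j ⟶ cokernel (ι j) := fun j => cokernel.π _
  let π : ∀ j : ℕ, Is j ⟶ Ks (j + 1) := π₀
  have hιπ : ∀ j, ι j ≫ π j = 0 := fun j => cokernel.condition (ι j)
  have hmono : ∀ j, Mono (ι j) := fun j => by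
    show Mono (emb j (Ks j)).2
    by_cases h : j < n
    · rw [show emb j (Ks j) = ⟨I₀ (Ks j), ι₀ (Ks j)⟩ from if_pos h]
      exact hι₀ _
    · rw [show emb j (Ks j) = ⟨Ks j, 𝟙 (Ks j)⟩ from if_neg h]
      exact inferInstanceAs (Mono (𝟙 (Ks j)))
  have hP : ∀ j, j < n → ∀ p, P ((Is j).X p) := fun j hj p => by
    show P ((emb j (Ks j)).1.X p)
    simp only [emb, if_pos hj]
    exact hI₀ _ p
  have hiso' : ∀ j, n ≤ j → IsIso (ι j) := fun j hj => by
    show IsIso (emb j (Ks j)).2
    rw [show emb j (Ks j) = ⟨Ks j, 𝟙 (Ks j)⟩ from if_neg (by omega)]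
    exact inferInstanceAs (IsIso (𝟙 (Ks j)))
  let S : ℕ → ShortComplex (CochainComplex A ℤ) := fun j =>
    ShortComplex.mk (ι j) (π j) (hιπ j)
  have hS : ∀ j, (S j).ShortExact := fun j =>
    { exact := ShortComplex.exact_of_g_is_cokernel _ (cokernelIsCokernel _)
      mono_f := hmono j
      epi_g := inferInstanceAs (Epi (cokernel.π (ι j))) }
  have hzero : ∀ j, n < j → IsZero (Is j) := fun j hj => by
    obtain ⟨k, rfl⟩ : ∃ k, j = k + 1 := ⟨j - 1, by omega⟩
    haveI := hiso' k (by omega)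
    haveI := hiso' (k + 1) (by omega)
    exact (isZero_cokernel_of_epi (ι k)).of_iso (asIso (ι (k + 1))).symm
  have hlast : ∀ p, P ((Ks n).X p) := fun p => by
    let ev := HomologicalComplex.eval A (ComplexShape.up ℤ) p
    let C : CochainComplex A ℕ := CochainComplex.of (fun j => (Is j).X p)
      (fun j => (π j).f p ≫ (ι (j + 1)).f p) (fun j => by
        have h0 : (ι (j + 1)).f p ≫ (π (j + 1)).f p = 0 :=
          (HomologicalComplex.comp_f _ _ _).symm.trans
            ((congrArg (fun t => HomologicalComplex.Hom.f t p) (hιπ (j + 1))).trans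
              (HomologicalComplex.zero_f _ _ _))
        exact (Category.assoc _ _ _).trans ((congrArg ((π j).f p ≫ ·) ((Category.assoc _ _ _).symm.trans
          ((congrArg (· ≫ (ι (j + 1 + 1)).f p) h0).trans zero_comp))).trans comp_zero))
    haveI := hiso' n le_rfl
    haveI : IsIso ((ι n).f p) := inferInstanceAs (IsIso (ev.map (ι n)))
    have hp : ∀ j, ((S j).map ev).ShortExact := fun j => (hS j).map_of_exact ev
    refine hiso (asIso ((ι n).f p)).symm (htop C ?_ (fun i hi => ev.map_isZero (hzero i hi)) ?_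
      (fun i hi => hP i hi p))
    · intro i h1 _
      obtain ⟨k, rfl⟩ : ∃ k, i = k + 1 := ⟨i - 1, by omega⟩
      rw [HomologicalComplex.exactAt_iff' C k (k + 1) (k + 1 + 1) (by simp) (by simp),
        ShortComplex.exact_iff_exact_up_to_refinements]
      intro W x hx
      change W ⟶ (Is (k + 1)).X p at x
      have hx' : x ≫ (π (k + 1)).f p = 0 := by
        haveI : Mono ((ι (k + 1 + 1)).f p) := (hp (k + 1 + 1)).mono_f
        rw [← cancel_mono ((ι (k + 1 + 1)).f p), zero_comp, Category.assoc]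
        exact (congrArg (x ≫ ·) (show C.d (k + 1) (k + 1 + 1) = (π (k + 1)).f p ≫ (ι (k + 1 + 1)).f p from by
          simp [C, CochainComplex.of_d]).symm).trans hx
      haveI : Mono ((ι (k + 1)).f p) := (hp (k + 1)).mono_f
      obtain ⟨l, hl⟩ : ∃ l : W ⟶ (Ks (k + 1)).X p, l ≫ (ι (k + 1)).f p = x :=
        haveI := (hp (k + 1)).mono_f
        ⟨(hp (k + 1)).exact.lift x hx', (hp (k + 1)).exact.lift_f _ hx'⟩
      haveI : Epi ((π k).f p) := (hp k).epi_g
      obtain ⟨W', e, he, y, hy⟩ := surjective_up_to_refinements_of_epi ((π k).f p) l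
      refine ⟨W', e, he, y, ?_⟩
      show e ≫ x = y ≫ C.d k (k + 1)
      rw [show C.d k (k + 1) = (π k).f p ≫ (ι (k + 1)).f p from by simp [C, CochainComplex.of_d],
        ← reassoc_of% hy, hl]
    · obtain ⟨k, rfl⟩ : ∃ k, n = k + 1 := ⟨n - 1, by omega⟩
      rw [Nat.add_sub_cancel]
      haveI : Epi ((π k).f p) := (hp k).epi_g
      show Epi (C.d k (k + 1))
      rw [show C.d k (k + 1) = (π k).f p ≫ (ι (k + 1)).f p from by simp [C, CochainComplex.of_d]]
      exact epi_comp _ _
  have key : ∀ k j, j + k = n → ∃ (L : CochainComplex A ℤ) (f : Ks j ⟶ L), QuasiIso f ∧ ∀ p, P (L.X p) := by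
    intro k
    induction k with
    | zero =>
      intro j hj
      obtain rfl : j = n := by omega
      exact ⟨Ks j, 𝟙 _, inferInstance, hlast⟩
    | succ k ih =>
      intro j hj
      obtain ⟨L, f, hf, hL⟩ := ih (j + 1) (by omega)
      let f' : (S j).X₃ ⟶ L := f
      haveI : QuasiIso f' := hf
      obtain ⟨M, h, hh, hM⟩ := exists_splice (hS j) f'
      exact ⟨M, h, hh, fun p => hiso (hM p).some.symm (hbi _ _ (hP j (by omega) p) (hL _))⟩
  exact key n 0 (zero_add n)

end Groth.Agent.H16Derived.Res
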