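import Mathlib.Algebra.Homology.Embedding.CochainComplex
import Groth.Agent.H16Derived.Res.DimFun
import Groth.Agent.H16Derived.Res.SpliceProj
import Groth.Agent.H16Derived.Res.Unbounded

/-!
# Compatible resolutions of the truncations of a complex
-/

set_option autoImplicit false
set_option linter.style.haveILetI false

universe v u

open CategoryTheory CategoryTheory.Limits CochainComplex HomologicalComplex ComplexShape

namespace Groth.Agent.H16Derived.Res

variable {A : Type u} [Category.{v} A] [Abelian A]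

variable (I : ObjectProperty A) [I.IsClosedUnderIsomorphisms]
  (hI0 : ∃ Z : A, IsZero Z ∧ I Z) (hIprod : ∀ X Y : A, I X → I Y → I (X ⊞ Y))
  (hI : ∀ X : A, ∃ (Y : A) (ι : X ⟶ Y), I Y ∧ Mono ι)

include hI0 in
lemma mem_of_isZero {X : A} (h : IsZero X) : I X := by
  obtain ⟨Z, hZ, hIZ⟩ := hI0
  exact I.prop_of_iso (hZ.iso h) hIZ

include hI0 hI in
/-- A bounded below complex maps quasi-isomorphically to a bounded below complex in `I`. -/
theorem exists_qis_plus (a : ℤ) (K : CochainComplex A ℤ) [K.IsStrictlyGE a] :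
    ∃ (L : CochainComplex A ℤ) (f : K ⟶ L), QuasiIso f ∧ L.IsStrictlyGE a ∧ ∀ i, I (L.X i) := by
  classical
  let d : A → ℕ∞ := fun X => if I X then 0 else 1
  obtain ⟨L, f, hf, hge, hlt⟩ := exists_qis_ge d
    (fun X Y ⟨e⟩ => by simp only [d, I.prop_iff_of_iso e])
    (fun X => by obtain ⟨Y, ι, hY, hι⟩ := hI X; exact ⟨Y, ι, hι, if_pos hY⟩) a K
  have hz : ∀ i, i < a → IsZero (L.X i) := fun i hi =>
    (K.isZero_of_isStrictlyGE a i hi).of_iso (hlt i hi).some.symm
  refine ⟨L, f, hf, (CochainComplex.isStrictlyGE_iff L a).2 hz, fun i => ?_⟩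
  by_cases h : a ≤ i
  · by_contra hn
    have := hge i h
    simp [d, if_neg hn] at this
  · exact mem_of_isZero I hI0 (hz i (not_le.1 h))

include hI0 hIprod hI in
/-- Embedding of a bounded below complex into a bounded below complex in `I`. -/
theorem exists_mono_plus (a : ℤ) (K : CochainComplex A ℤ) [K.IsStrictlyGE a] :
    ∃ (E : CochainComplex A ℤ) (ι : K ⟶ E), Mono ι ∧ E.IsStrictlyGE (a - 1) ∧ ∀ i, I (E.X i) := by
  classical
  obtain ⟨Z, hZ, hIZ⟩ := hI0
  have h : ∀ p : ℤ, ∃ (Y : A) (ι : K.X p ⟶ Y), I Y ∧ Mono ι ∧ (p < a → IsZero Y) := fun p => by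
    by_cases hp : p < a
    · exact ⟨Z, 0, hIZ, ⟨fun _ _ _ => (K.isZero_of_isStrictlyGE a p hp).eq_of_tgt _ _⟩, fun _ => hZ⟩
    · obtain ⟨Y, ι, hY, hι⟩ := hI (K.X p)
      exact ⟨Y, ι, hY, hι, fun h => absurd h hp⟩
  choose Y i hY hi hz using h
  let ι : K ⟶ contr Y :=
    { f := fun p => biprod.lift (i p) (K.d p (p + 1) ≫ i (p + 1))
      comm' := fun p q hpq => by
        obtain rfl : p + 1 = q := hpq
        simp only [contr, CochainComplex.of_d]
        apply biprod.hom_ext
        · simp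
        · simp }
  haveI : ∀ p, Mono (ι.f p) := fun p =>
    haveI := hi p
    mono_of_mono_fac (show ι.f p ≫ biprod.fst = i p from biprod.lift_fst _ _)
  refine ⟨contr Y, ι, HomologicalComplex.mono_of_mono_f _ inferInstance, ?_, fun p => hIprod _ _ (hY p) (hY (p + 1))⟩
  rw [CochainComplex.isStrictlyGE_iff]
  intro p hp
  exact (biprod_isZero_iff (Y p) (Y (p + 1))).2 ⟨hz p (by omega), hz (p + 1) (by omega)⟩

include hI0 hIprod hI in
/-- Factor a map to a bounded below complex in `I` as a monic quasi-isomorphism followed by a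
termwise split epimorphism with kernels in `I`. -/
theorem exists_factor (a : ℤ) (T Q : CochainComplex A ℤ) [T.IsStrictlyGE a] [Q.IsStrictlyGE a]
    (hQ : ∀ i, I (Q.X i)) (φ : T ⟶ Q) :
    ∃ (M : CochainComplex A ℤ) (π : T ⟶ M) (p : M ⟶ Q), π ≫ p = φ ∧ QuasiIso π ∧ (∀ i, Mono (π.f i)) ∧
      (∃ b : ℤ, M.IsStrictlyGE b) ∧ (∀ i, I (M.X i)) ∧
      ∀ i, (∃ s : Q.X i ⟶ M.X i, s ≫ p.f i = 𝟙 _) ∧ I (kernel (p.f i)) := by
  obtain ⟨E, ι, hι, hE, hEI⟩ := exists_mono_plus I hI0 hIprod hI a T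
  let X : CochainComplex A ℤ := Q ⊞ E
  let φ' : T ⟶ X := biprod.lift φ ι
  haveI : Mono φ' := mono_of_mono_fac (biprod.lift_snd φ ι)
  let S : ShortComplex (CochainComplex A ℤ) := ShortComplex.mk φ' (cokernel.π φ') (cokernel.condition φ')
  have hS : S.ShortExact := KInjRes.shortExact_cokernel φ'
  have hXz : ∀ i, i < a - 1 → IsZero (X.X i) := fun i hi =>
    IsZero.of_iso ((biprod_isZero_iff _ _).2
      ⟨Q.isZero_of_isStrictlyGE a i (by omega), E.isZero_of_isStrictlyGE (a - 1) i hi⟩)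
      (biprodXIso Q E i)
  haveI : (cokernel φ').IsStrictlyGE (a - 1) := by
    rw [CochainComplex.isStrictlyGE_iff]
    intro i hi
    haveI : Epi ((cokernel.π φ').f i) :=
      (hS.map_of_exact (HomologicalComplex.eval A (ComplexShape.up ℤ) i)).epi_g
    exact IsZero.of_epi ((cokernel.π φ').f i) (hXz i hi)
  obtain ⟨L, f, hf, hL, hLI⟩ := exists_qis_plus I hI0 hI (a - 1) S.X₃
  obtain ⟨h, hh, hhf⟩ := exists_splice_proj hS f
  let ψ := S.g ≫ f
  let p : mappingCocone ψ ⟶ Q := mappingCocone.fst ψ ≫ biprod.fst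
  have e : ∀ i, ∃ e : (mappingCocone ψ).X i ≅ X.X i ⊞ L.X (i + -1),
      e.hom ≫ biprod.fst = (mappingCocone.fst ψ).f i := fun i =>
    ⟨{ hom := biprod.lift ((mappingCocone.fst ψ).f i) ((mappingCocone.snd ψ).v i (i + -1) rfl)
       inv := biprod.desc ((mappingCocone.inl ψ).v i i (add_zero i))
          ((mappingCocone.inr ψ).1.v (i + -1) i (by omega))
       hom_inv_id := by rw [biprod.lift_desc]; exact mappingCocone.id_X ψ i (i + -1) rfl
       inv_hom_id := by
        apply biprod.hom_ext'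
        · apply biprod.hom_ext <;> simp <;> rfl
        · apply biprod.hom_ext <;> simp }, biprod.lift_fst _ _⟩
  refine ⟨mappingCocone ψ, h, p, ?_, hh, fun i => ?_, ⟨a - 1, ?_⟩, fun i => ?_, fun i => ⟨?_, ?_⟩⟩
  · simp only [p, ψ, reassoc_of% hhf]
    exact biprod.lift_fst φ ι
  · haveI : Mono (φ'.f i) := inferInstance
    exact mono_of_mono_fac (show h.f i ≫ (mappingCocone.fst ψ).f i = φ'.f i by
      rw [← HomologicalComplex.comp_f, hhf])
  · rw [CochainComplex.isStrictlyGE_iff]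
    intro i hi
    exact ((biprod_isZero_iff _ _).2 ⟨hXz i hi, L.isZero_of_isStrictlyGE (a - 1) _ (by omega)⟩).of_iso
      (e i).choose
  · exact I.prop_of_iso ((e i).choose.trans (biprod.mapIso (biprodXIso Q E i) (Iso.refl _))).symm
      (hIprod _ _ (hIprod _ _ (hQ i) (hEI i)) (hLI _))
  · refine ⟨(biprod.inl : Q ⟶ X).f i ≫ (mappingCocone.inl ψ).v i i (add_zero i), ?_⟩
    simp [p, X]
  · let g : (mappingCocone ψ).X i ≅ Q.X i ⊞ (E.X i ⊞ L.X (i + -1)) :=
      (e i).choose ≪≫ biprod.mapIso (biprodXIso Q E i) (Iso.refl _) ≪≫ biprod.associator _ _ _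
    have hg : g.hom ≫ biprod.fst = p.f i := by
      simp [g, p, X, reassoc_of% (e i).choose_spec]
    let k : E.X i ⊞ L.X (i + -1) ⟶ (mappingCocone ψ).X i := biprod.inr ≫ g.inv
    have hk : k ≫ p.f i = 0 := by simp [k, ← hg]
    haveI : Mono k := mono_comp _ _
    let T' : ShortComplex A := ShortComplex.mk k (p.f i) hk
    have hT' : T'.Exact := by
      rw [ShortComplex.exact_iff_exact_up_to_refinements]
      intro W x hx
      refine ⟨W, 𝟙 W, inferInstance, x ≫ g.hom ≫ biprod.snd, ?_⟩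
      change x ≫ p.f i = 0 at hx
      rw [Category.id_comp, ← cancel_mono g.hom]
      apply biprod.hom_ext
      · simp [T', k, hg, hx]
      · simp [T', k]
    exact I.prop_of_iso (IsLimit.conePointUniqueUpToIso hT'.fIsKernel (limit.isLimit _))
      (hIprod _ _ (hEI i) (hLI _))

/-- The canonical map between successive truncations. -/
lemma exists_truncGE_desc (K : CochainComplex A ℤ) (m m' : ℤ) (h : m < m') :
    ∃ q : K.truncGE m ⟶ K.truncGE m', K.πTruncGE m ≫ q = K.πTruncGE m' := by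
  haveI : Epi (K.πTruncGE m) := inferInstanceAs (Epi (HomologicalComplex.πTruncGE K _))
  refine ⟨Abelian.epiDesc (K.πTruncGE m) (K.πTruncGE m') ?_, Abelian.comp_epiDesc _ _ _⟩
  refine HomologicalComplex.hom_ext _ _ fun i => ?_
  by_cases hi : i < m'
  · exact ((K.truncGE m').isZero_of_isStrictlyGE m' i hi).eq_of_tgt _ _
  · obtain ⟨n, hn⟩ : ∃ n : ℕ, (embeddingUpIntGE m).f n = i := ⟨(i - m).toNat, by simp; omega⟩
    haveI : IsIso ((K.πTruncGE m).f i) := by
      dsimp [CochainComplex.πTruncGE, HomologicalComplex.πTruncGE]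
      refine ((embeddingUpIntGE m).isIso_liftExtend_f_iff _ _ hn).2 ?_
      exact HomologicalComplex.isIso_restrictionToTruncGE' K _ n (by
        rw [boundaryGE_embeddingUpIntGE_iff]; simp at hn; omega)
    have h0 := congrArg (fun t => t.f i) (kernel.condition (K.πTruncGE m))
    simp only [HomologicalComplex.comp_f, HomologicalComplex.zero_f] at h0 ⊢
    have : (kernel.ι (K.πTruncGE m)).f i = 0 := by
      rw [← cancel_mono ((K.πTruncGE m).f i), h0, zero_comp]
    rw [this, zero_comp]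

end Groth.Agent.H16Derived.Res
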