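import Groth.Agent.H16Derived.AcyclicLES
import Groth.Agent.H16Derived.CalcDerived
import Groth.Agent.H16Derived.Res.Unbounded
import Mathlib.Algebra.Homology.DerivedCategory.Fractions

/-!
# Acyclic complexes for functors of finite cohomological dimension
-/

set_option autoImplicit false
set_option linter.style.haveILetI false

universe w w' v v' u u'

open CategoryTheory CategoryTheory.Limits HomologicalComplex

namespace Groth.Agent.H16Derived.FinCD

variable {A : Type u} [Category.{v} A] [Abelian A] [HasInjectiveResolutions A]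
  {B : Type u'} [Category.{v'} B] [Abelian B] (F : A ⥤ B) [F.Additive] [PreservesFiniteLimits F]

lemma exists_mono_injective (X : A) : ∃ (Y : A) (i : X ⟶ Y), Injective Y ∧ Mono i := by
  let I : InjectiveResolution X := injectiveResolution X
  have h : ∀ n, Mono (I.ι.f n) := fun n => inferInstance
  have h' : ∀ n, Injective (I.cocomplex.X n) := fun n => inferInstance
  exact ⟨_, I.ι.f 0, h' 0, h 0⟩

lemma enoughInjectives : EnoughInjectives A :=
  ⟨fun X => by
    obtain ⟨Y, i, hY, hi⟩ := exists_mono_injective X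
    exact ⟨{ J := Y, injective := hY, f := i, mono := hi }⟩⟩

/-- One step of dimension shifting to the right. -/
lemma isZero_X₃_of_shift {S : ShortComplex A} (hS : S.ShortExact) (i : ℕ)
    (h₂ : IsZero ((F.rightDerived i).obj S.X₂)) (h₁ : IsZero ((F.rightDerived (i + 1)).obj S.X₁)) :
    IsZero ((F.rightDerived i).obj S.X₃) := by
  haveI := enoughInjectives (A := A)
  obtain ⟨T, hT, e₁, e₂, e₃, -⟩ := AcyclicLES.exists_les F S hS
  exact ((hT.homology_exact₃ (i : ℤ) ((i + 1 : ℕ) : ℤ) (by simp)).isZero_X₂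
    ((h₂.of_iso (e₂ i).some.symm).eq_of_src _ _)
    ((h₁.of_iso (e₁ (i + 1)).some.symm).eq_of_tgt _ _)).of_iso (e₃ i).some

/-- Vanishing in one degree propagates upwards. -/
lemma isZero_rightDerived_of_le {n : ℕ} (hn : ∀ X : A, IsZero ((F.rightDerived n).obj X))
    {m : ℕ} (hm : n ≤ m) (X : A) : IsZero ((F.rightDerived m).obj X) := by
  haveI := enoughInjectives (A := A)
  induction m, hm using Nat.le_induction generalizing X with
  | base => exact hn X
  | succ m _ ih =>
    let S : ShortComplex A := ShortComplex.mk (Injective.ι X) (cokernel.π _) (cokernel.condition _)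
    have hS : S.ShortExact := { exact := ShortComplex.exact_cokernel (Injective.ι X) }
    obtain ⟨T, hT, e₁, e₂, e₃, -⟩ := AcyclicLES.exists_les F S hS
    have h₂ : IsZero ((F.rightDerived (m + 1)).obj S.X₂) :=
      F.isZero_rightDerived_obj_injective_succ m (Injective.under X)
    exact ((hT.homology_exact₁ (m : ℤ) ((m + 1 : ℕ) : ℤ) (by simp)).isZero_X₂
      (((ih S.X₃).of_iso (e₃ m).some.symm).eq_of_src _ _)
      ((h₂.of_iso (e₂ (m + 1)).some.symm).eq_of_tgt _ _)).of_iso (e₁ (m + 1)).some

/-- Dimension shifting along a chain of short exact sequences. -/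
lemma isZero_of_chain (Z M : ℕ → A) (k : ℕ)
    (hS : ∀ j, j < k → ∃ (a : Z j ⟶ M j) (b : M j ⟶ Z (j + 1)) (h : a ≫ b = 0),
      (ShortComplex.mk a b h).ShortExact)
    (hM : ∀ j, j < k → AcyclicLES.IsAcyclic F (M j)) :
    ∀ i, 0 < i → IsZero ((F.rightDerived (i + k)).obj (Z 0)) → IsZero ((F.rightDerived i).obj (Z k)) := by
  induction k with
  | zero => intro i _ h; exact h
  | succ k ih =>
    intro i hi h
    obtain ⟨a, b, hab, hex⟩ := hS k (by omega)
    refine isZero_X₃_of_shift F hex i (hM k (by omega) i hi) ?_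
    exact ih (fun j hj => hS j (by omega)) (fun j hj => hM j (by omega)) (i + 1) (by omega)
      (by rwa [show i + 1 + k = i + (k + 1) by omega])

variable {n : ℕ} (hn : ∀ X : A, IsZero ((F.rightDerived n).obj X))

include hn in
/-- The last term of a long enough exact sequence of acyclic objects is acyclic. -/
lemma isAcyclic_top (K : CochainComplex A ℕ) (hex : ∀ i : ℕ, 1 ≤ i → i ≤ n + 1 → K.ExactAt i)
    (hz : ∀ i : ℕ, n + 1 < i → IsZero (K.X i)) (hP : ∀ i : ℕ, i < n + 1 → AcyclicLES.IsAcyclic F (K.X i)) :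
    AcyclicLES.IsAcyclic F (K.X (n + 1)) := by
  intro i hi
  have e : K.X (n + 1) ≅ K.cycles (n + 1) :=
    (@asIso _ _ _ _ (K.iCycles (n + 1))
      (K.isIso_iCycles (n + 1) (n + 1 + 1) (by simp) ((hz _ (by omega)).eq_of_tgt _ _))).symm
  refine IsZero.of_iso ?_ ((F.rightDerived i).mapIso e)
  refine isZero_of_chain F (fun j => K.cycles j) (fun j => K.X j) (n + 1) (fun j hj => ?_) hP i hi
    (isZero_rightDerived_of_le F hn (by omega) _)
  refine ⟨K.iCycles j, K.toCycles j (j + 1), by
    rw [← cancel_mono (K.iCycles (j + 1)), Category.assoc, toCycles_i, iCycles_d, zero_comp], ?_⟩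
  have hepi : Epi (K.toCycles j (j + 1)) := by
    have h := (K.exactAt_iff_isZero_homology _).1 (hex (j + 1) (by omega) (by omega))
    exact Abelian.epi_of_cokernel_π_eq_zero _ (IsZero.eq_of_tgt (h.of_iso
      (IsColimit.coconePointUniqueUpToIso (K.homologyIsCokernel j (j + 1) (by simp)) (colimit.isColimit _)).symm) _ _)
  refine { exact := ?_, epi_g := hepi }
  rw [ShortComplex.exact_iff_exact_up_to_refinements]
  intro W x hx
  refine ⟨W, 𝟙 W, inferInstance, K.liftCycles x (j + 1) (by simp) ?_, (Category.id_comp x).trans (K.liftCycles_i x _ _ _).symm⟩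
  rw [← K.toCycles_i j (j + 1), reassoc_of% hx, zero_comp]

include hn in
/-- An exact complex of acyclic objects is sent to an exact complex. -/
lemma exactAt_map (M : CochainComplex A ℤ) (hM : M.Acyclic)
    (hX : ∀ i, AcyclicLES.IsAcyclic F (M.X i)) (p : ℤ) :
    ((F.mapHomologicalComplex (ComplexShape.up ℤ)).obj M).ExactAt p := by
  haveI := enoughInjectives (A := A)
  have hepi : ∀ q r : ℤ, q + 1 = r → Epi (M.toCycles q r) := by
    rintro q r rfl
    have h := (M.exactAt_iff_isZero_homology _).1 (hM (q + 1))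
    exact Abelian.epi_of_cokernel_π_eq_zero _ (IsZero.eq_of_tgt (h.of_iso
      (IsColimit.coconePointUniqueUpToIso (M.homologyIsCokernel q (q + 1) (by simp)) (colimit.isColimit _)).symm) _ _)
  have hz : ∀ q r : ℤ, M.iCycles q ≫ M.toCycles q r = 0 := fun q r => by
    rw [← cancel_mono (M.iCycles r), Category.assoc, toCycles_i, iCycles_d, zero_comp]
  have hS : ∀ q r : ℤ, q + 1 = r → (ShortComplex.mk (M.iCycles q) (M.toCycles q r) (hz q r)).ShortExact := by
    rintro q r rfl
    refine { exact := ?_, epi_g := hepi q _ rfl }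
    rw [ShortComplex.exact_iff_exact_up_to_refinements]
    intro W x hx
    refine ⟨W, 𝟙 W, inferInstance, M.liftCycles x (q + 1) (by simp) ?_, (Category.id_comp x).trans (M.liftCycles_i x _ _ _).symm⟩
    rw [← M.toCycles_i q (q + 1), reassoc_of% hx, zero_comp]
  have hZ : ∀ q : ℤ, AcyclicLES.IsAcyclic F (M.cycles q) := fun q i hi => by
    have h := isZero_of_chain F (fun j : ℕ => M.cycles (q - n + j)) (fun j : ℕ => M.X (q - n + j)) n
      (fun j _ => ⟨M.iCycles _, M.toCycles _ _, hz _ _, hS _ _ (by push_cast; omega)⟩)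
      (fun j _ => hX _) i hi (isZero_rightDerived_of_le F hn (by omega) _)
    have e : q - (n : ℤ) + (n : ℤ) = q := by omega
    simp only [e] at h
    exact h
  rw [exactAt_iff' _ (p - 1) p (p + 1) (by simp) (by simp),
    ShortComplex.exact_iff_exact_up_to_refinements]
  intro W x hx
  change W ⟶ F.obj (M.X p) at x
  change x ≫ F.map (M.d p (p + 1)) = 0 at hx
  have h₂ := AcyclicLES.shortExact_map F (hS p (p + 1) rfl) (hZ p)
  have h₁ := AcyclicLES.shortExact_map F (hS (p - 1) p (by omega)) (hZ (p - 1))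
  have hx' : x ≫ F.map (M.toCycles p (p + 1)) = 0 := by
    haveI : Mono (M.iCycles (p + 1)) := inferInstance
    rw [← cancel_mono (F.map (M.iCycles (p + 1))), Category.assoc, ← F.map_comp, toCycles_i, hx, zero_comp]
  obtain ⟨l, hl⟩ : ∃ l : W ⟶ F.obj (M.cycles p), l ≫ F.map (M.iCycles p) = x :=
    haveI := h₂.mono_f
    ⟨h₂.exact.lift x hx', h₂.exact.lift_f x hx'⟩
  haveI : Epi (F.map (M.toCycles (p - 1) p)) := h₁.epi_g
  obtain ⟨W', π, hπ, y, hy⟩ := surjective_up_to_refinements_of_epi (F.map (M.toCycles (p - 1) p)) l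
  refine ⟨W', π, hπ, y, ?_⟩
  show π ≫ x = y ≫ F.map (M.d (p - 1) p)
  rw [← M.toCycles_i (p - 1) p, F.map_comp, ← reassoc_of% hy, hl]

include hn in
/-- Quasi-isomorphisms between complexes of acyclic objects are preserved. -/
lemma quasiIso_map {K L : CochainComplex A ℤ} (s : K ⟶ L) [QuasiIso s]
    (hK : ∀ i, AcyclicLES.IsAcyclic F (K.X i)) (hL : ∀ i, AcyclicLES.IsAcyclic F (L.X i)) :
    QuasiIso ((F.mapHomologicalComplex (ComplexShape.up ℤ)).map s) := by
  haveI := enoughInjectives (A := A)
  have hc : ∀ i, AcyclicLES.IsAcyclic F ((CochainComplex.mappingCone s).X i) := fun i j hj =>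
    ((AcyclicLES.isAcyclic_X₂ F
      (ShortComplex.Splitting.ofHasBinaryBiproduct (K.X (i + 1)) (L.X i)).shortExact
      (hK (i + 1)) (hL i)) j hj).of_iso
        ((F.rightDerived j).mapIso (HomologicalComplex.homotopyCofiber.XIsoBiprod s i (i + 1) rfl))
  rw [AcyclicLES.quasiIso_iff_acyclic_mappingCone]
  intro i
  exact HomologicalComplex.ExactAt.of_iso
    (exactAt_map F hn _ ((AcyclicLES.quasiIso_iff_acyclic_mappingCone s).1 ‹_›) hc i)
    (CochainComplex.mappingCone.mapHomologicalComplexIso s F)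

variable [HasDerivedCategory.{w} A] [HasDerivedCategory.{w'} B]

/-- A homotopy class of complexes of `F`-acyclic objects. -/
def Adapted (X : HomotopyCategory A (ComplexShape.up ℤ)) : Prop :=
  ∀ p, AcyclicLES.IsAcyclic F (X.as.X p)

omit [HasDerivedCategory.{w} A] [HasDerivedCategory.{w'} B] in
include hn in
lemma exists_adapted (X : HomotopyCategory A (ComplexShape.up ℤ)) :
    ∃ (I : HomotopyCategory A (ComplexShape.up ℤ)) (s : X ⟶ I),
      HomotopyCategory.quasiIso A (ComplexShape.up ℤ) s ∧ Adapted F I := by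
  haveI := enoughInjectives (A := A)
  obtain ⟨L, f, hf, hL⟩ := Res.exists_quasiIso (fun Y => AcyclicLES.IsAcyclic F Y)
    (fun Y => by
      obtain ⟨Z, i, hZ, hi⟩ := exists_mono_injective Y
      haveI := hZ
      exact ⟨Z, i, AcyclicLES.isAcyclic_of_injective F Z, hi⟩)
    (fun Y Z hY hZ => AcyclicLES.isAcyclic_X₂ F
      (ShortComplex.Splitting.ofHasBinaryBiproduct Y Z).shortExact hY hZ)
    (fun e h i hi => (h i hi).of_iso ((F.rightDerived i).mapIso e.symm)) (n + 1)
    (fun K hex hz _ hP => isAcyclic_top F hn K hex hz hP) (by omega) X.as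
  refine ⟨(HomotopyCategory.quotient A _).obj L, (HomotopyCategory.quotient A _).map f, ?_, hL⟩
  exact (HomotopyCategory.quotient_map_mem_quasiIso_iff f).2 hf

omit [HasDerivedCategory.{w} A] in
include hn in
lemma isIso_map_adapted {I J : HomotopyCategory A (ComplexShape.up ℤ)} (s : I ⟶ J)
    (hI : Adapted F I) (hJ : Adapted F J) (hs : HomotopyCategory.quasiIso A (ComplexShape.up ℤ) s) :
    IsIso ((F.mapHomotopyCategory (ComplexShape.up ℤ) ⋙ DerivedCategory.Qh).map s) := by
  obtain ⟨f, rfl⟩ := (HomotopyCategory.quotient A _).map_surjective s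
  haveI : QuasiIso f := (HomotopyCategory.quotient_map_mem_quasiIso_iff f).1 hs
  haveI := quasiIso_map F hn f hI hJ
  exact Localization.inverts DerivedCategory.Qh (HomotopyCategory.quasiIso B (ComplexShape.up ℤ)) _
    (show HomotopyCategory.quasiIso B (ComplexShape.up ℤ)
      ((HomotopyCategory.quotient B _).map ((F.mapHomologicalComplex (ComplexShape.up ℤ)).map f)) by
      exact (HomotopyCategory.quotient_map_mem_quasiIso_iff _).2 ‹_›)

omit [HasDerivedCategory.{w} A] in
include hn in
theorem hasPointwiseRightDerivedFunctor :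
    (F.mapHomotopyCategory (ComplexShape.up ℤ) ⋙ DerivedCategory.Qh).HasPointwiseRightDerivedFunctor
      (HomotopyCategory.quasiIso A (ComplexShape.up ℤ)) :=
  CalcDerived.hasPointwiseRightDerivedFunctor (HomotopyCategory.quasiIso A (ComplexShape.up ℤ)).Q
    (HomotopyCategory.quasiIso A (ComplexShape.up ℤ)) _ (Adapted F) (exists_adapted F hn)
    (fun s => isIso_map_adapted F hn s)

include hn in
theorem isIso_unit (G : DerivedCategory A ⥤ DerivedCategory B)
    (α : F.mapHomotopyCategory (ComplexShape.up ℤ) ⋙ DerivedCategory.Qh ⟶ DerivedCategory.Qh ⋙ G)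
    [G.IsRightDerivedFunctor α (HomotopyCategory.quasiIso A (ComplexShape.up ℤ))]
    (K : CochainComplex A ℤ) (hK : ∀ i, AcyclicLES.IsAcyclic F (K.X i)) :
    IsIso (α.app ((HomotopyCategory.quotient A (ComplexShape.up ℤ)).obj K)) :=
  CalcDerived.isIso_unit_app DerivedCategory.Qh (HomotopyCategory.quasiIso A (ComplexShape.up ℤ)) _
    (Adapted F) (exists_adapted F hn) (fun s => isIso_map_adapted F hn s) G α hK

end Groth.Agent.H16Derived.FinCD
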