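import Groth.Agent.H16Derived.Res.DimFun
import Mathlib.Algebra.Homology.DerivedCategory.ExactFunctor
import Mathlib.Algebra.Homology.DerivedCategory.KInjective
import Mathlib.Algebra.Homology.DerivedCategory.TStructure
import Mathlib.CategoryTheory.Preadditive.Injective.Basic

/-!
# Complexes with cohomology in a thick subcategory with enough ambient injectives
-/

set_option autoImplicit false
set_option linter.style.haveILetI false

universe w w' v v' u u'

open CategoryTheory CategoryTheory.Limits CochainComplex HomologicalComplex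
open scoped ZeroObject

namespace Groth.Agent.H16Derived.Res

section

variable {A : Type u} [Category.{v} A] [Abelian A]

/-- Modify a complex in degrees `p` and `p + 1` along a map which is monic on cycles. -/
theorem exists_modify_of_mono_lift (M : CochainComplex A ℤ) (p : ℤ) {Y : A} (j : M.X p ⟶ Y)
    [Mono (biprod.lift (M.d p (p + 1)) j)] :
    ∃ (M' : CochainComplex A ℤ) (f : M ⟶ M'), QuasiIso f ∧
      (∀ i, i ≠ p → i ≠ p + 1 → IsIso (f.f i)) ∧ Nonempty (M'.X p ≅ Y) := by
  have hr : (ComplexShape.up ℤ).Rel p (p + 1) := rfl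
  have hne : p ≠ p + 1 := by omega
  let D : CochainComplex A ℤ := double (𝟙 (M.X p)) hr
  let E : CochainComplex A ℤ := double (𝟙 Y) hr
  let v : D ⟶ M := mkHomFromDouble hr hne (𝟙 _) (M.d p (p + 1)) (by simp) (fun k _ => M.d_comp_d _ _ _)
  let u : D ⟶ E := mkHomFromDouble hr hne (j ≫ (doubleXIso₀ (𝟙 Y) hr).inv)
    (j ≫ (doubleXIso₁ (𝟙 Y) hr hne).inv) (by simp [E, double_d _ _ hne])
    (fun k hk => by rw [double_d_eq_zero₀ _ _ _ _ hne.symm, comp_zero])
  let M' : CochainComplex A ℤ := pushout v u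
  let f : M ⟶ M' := pushout.inl v u
  let g : E ⟶ M' := pushout.inr v u
  have sq : IsPushout v u f g := IsPushout.of_hasPushout v u
  have sqi : ∀ i, IsPushout (v.f i) (u.f i) (f.f i) (g.f i) := fun i => sq.map (eval A _ i)
  haveI : Mono sq.shortComplex.f := by
    change Mono (biprod.lift v (-u))
    refine mono_of_mono_f _ fun i => ?_
    refine Preadditive.mono_of_cancel_zero _ fun {W} (x : W ⟶ D.X i) hx => ?_
    have h₁ : x ≫ v.f i = 0 := by
      have := hx =≫ (biprod.fst : M ⊞ E ⟶ M).f i
      rwa [Category.assoc, ← HomologicalComplex.comp_f, biprod.lift_fst, zero_comp] at this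
    have h₂ : x ≫ u.f i = 0 := by
      have := hx =≫ (biprod.snd : M ⊞ E ⟶ E).f i
      rw [Category.assoc, ← HomologicalComplex.comp_f, biprod.lift_snd, zero_comp,
        HomologicalComplex.neg_f_apply] at this
      exact neg_eq_zero.1 ((Preadditive.comp_neg x (u.f i)).symm.trans this)
    by_cases h₀ : i = p
    · subst h₀
      haveI : IsIso (v.f i) := by simp only [v, mkHomFromDouble_f₀]; infer_instance
      exact (cancel_mono (v.f i)).1 (h₁.trans zero_comp.symm)
    · by_cases h : i = p + 1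
      · subst h
        rw [← cancel_mono (doubleXIso₁ (𝟙 (M.X p)) hr hne).hom, zero_comp,
          ← cancel_mono (biprod.lift (M.d p (p + 1)) j), zero_comp]
        simp only [v, u, mkHomFromDouble_f₁] at h₁ h₂
        apply biprod.hom_ext
        · simpa using h₁
        · rw [← cancel_mono (doubleXIso₁ (𝟙 Y) hr hne).inv]
          simpa using h₂
      · exact (isZero_double_X _ _ i h₀ h).eq_of_tgt _ _
  haveI : Epi sq.shortComplex.g := sq.epi_shortComplex_g
  have hS : sq.shortComplex.ShortExact := { exact := sq.exact_shortComplex }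
  have hD : ∀ n, IsZero (sq.shortComplex.X₁.homology n) := fun n =>
    (HomologicalComplex.exactAt_iff_isZero_homology _ _).1 (acyclic_double_id (M.X p) p (p + 1) rfl n)
  haveI hq : QuasiIso sq.shortComplex.g := ⟨fun i => by
    rw [quasiIsoAt_iff_isIso_homologyMap]
    have h₁ : Mono (HomologicalComplex.homologyMap sq.shortComplex.g i) :=
      (hS.homology_exact₂ i).mono_g ((hD i).eq_of_src _ _)
    have h₂ : Epi (HomologicalComplex.homologyMap sq.shortComplex.g i) :=
      (hS.homology_exact₃ i (i + 1) (by simp)).epi_f ((hD (i + 1)).eq_of_tgt _ _)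
    exact isIso_of_mono_of_epi _⟩
  haveI : QuasiIso (biprod.inl : M ⟶ M ⊞ E) := KInjRes.quasiIso_of_mono _ fun i =>
    ExactAt.of_iso (acyclic_double_id Y p (p + 1) rfl i) cokernelBiprodInlIso.symm
  refine ⟨M', f, ?_, fun i h₀ h₁ => ?_, ?_⟩
  · rw [show f = biprod.inl ≫ sq.shortComplex.g from (biprod.inl_desc f g).symm]
    exact quasiIso_comp (hφ := ‹QuasiIso (biprod.inl : M ⟶ M ⊞ E)›) (hφ' := hq) _ _
  · haveI : IsIso (u.f i) :=
      ⟨0, (isZero_double_X _ _ i h₀ h₁).eq_of_src _ _, (isZero_double_X _ _ i h₀ h₁).eq_of_src _ _⟩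
    exact (sqi i).isIso_inl_of_isIso
  · haveI : IsIso (v.f p) := by simp only [v, mkHomFromDouble_f₀]; infer_instance
    haveI : IsIso (g.f p) := (sqi p).isIso_inr_of_isIso
    exact ⟨(asIso (g.f p)).symm ≪≫ doubleXIso₀ (𝟙 Y) hr⟩

end

variable {A' : Type u'} [Category.{v'} A'] [Abelian A'] {A : Type u} [Category.{v} A] [Abelian A]
  (ι : A' ⥤ A) [ι.Additive] [PreservesFiniteLimits ι] [PreservesFiniteColimits ι] [ι.Full] [ι.Faithful]

/-- Kernels of maps in the image are in the image. -/
lemma essImage_kernel {X Y : A} (f : X ⟶ Y) (hX : ι.essImage X) (hY : ι.essImage Y) :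
    ι.essImage (kernel f) := by
  obtain ⟨X', ⟨eX⟩⟩ := hX
  obtain ⟨Y', ⟨eY⟩⟩ := hY
  let g := ι.preimage (eX.hom ≫ f ≫ eY.inv)
  exact ⟨kernel g, ⟨PreservesKernel.iso ι g ≪≫ kernel.mapIso (ι.map g) f eX eY
    (by simp [g])⟩⟩

/-- Cokernels of maps in the image are in the image. -/
lemma essImage_cokernel {X Y : A} (f : X ⟶ Y) (hX : ι.essImage X) (hY : ι.essImage Y) :
    ι.essImage (cokernel f) := by
  obtain ⟨X', ⟨eX⟩⟩ := hX
  obtain ⟨Y', ⟨eY⟩⟩ := hY
  let g := ι.preimage (eX.hom ≫ f ≫ eY.inv)
  exact ⟨cokernel g, ⟨PreservesCokernel.iso ι g ≪≫ cokernel.mapIso (ι.map g) f eX eY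
    (by simp [g])⟩⟩

variable (hext : ∀ S : ShortComplex A, S.ShortExact → ι.essImage S.X₁ → ι.essImage S.X₃ → ι.essImage S.X₂)
  (hinj : ∀ X' : A', ∃ (Y' : A') (i : X' ⟶ Y'), Mono i ∧ Injective (ι.obj Y'))

include hext in
lemma essImage_cycles (a p : ℤ) (M : CochainComplex A ℤ) [M.IsStrictlyGE a]
    (hM : ∀ i, i < p → ι.essImage (M.X i)) (hH : ∀ i, ι.essImage (M.homology i)) :
    ι.essImage (M.cycles p) := by
  suffices h : ∀ (k : ℕ) (q : ℤ), q ≤ p → q ≤ a - 1 + k → ι.essImage (M.cycles q) from
    h (p - a + 1).toNat p le_rfl (by omega)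
  intro k
  induction k with
  | zero =>
    intro q _ hq
    have : IsZero (M.cycles q) :=
      IsZero.of_mono (M.iCycles q) (M.isZero_of_isStrictlyGE a q (by omega))
    exact ⟨0, ⟨(ι.map_isZero (isZero_zero A')).iso this⟩⟩
  | succ k ih =>
    intro q hqp hq
    have hZ := ih (q - 1) (by omega) (by omega)
    let t : M.X (q - 1) ⟶ M.cycles q := M.toCycles (q - 1) q
    have hker : ι.essImage (kernel t) := by
      have e₁ : kernel t ≅ kernel (M.d (q - 1) q) :=
        (kernelCompMono t (M.iCycles q)).symm ≪≫ kernelIsoOfEq (M.toCycles_i (q - 1) q)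
      have e₂ : M.cycles (q - 1) ≅ kernel (M.d (q - 1) q) :=
        IsLimit.conePointUniqueUpToIso (M.cyclesIsKernel (q - 1) q (by simp)) (limit.isLimit _)
      exact ι.essImage.prop_of_iso (e₂ ≪≫ e₁.symm) hZ
    have him : ι.essImage (Abelian.coimage t) :=
      essImage_cokernel ι _ hker (hM (q - 1) (by omega))
    refine hext (ShortComplex.mk (Abelian.image.ι t) (cokernel.π t) (kernel.condition _))
      { exact := ShortComplex.exact_of_f_is_kernel _ (kernelIsKernel (cokernel.π t)) } ?_ ?_
    · exact ι.essImage.prop_of_iso (Abelian.coimageIsoImage t) him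
    · exact ι.essImage.prop_of_iso
        (IsColimit.coconePointUniqueUpToIso (M.homologyIsCokernel (q - 1) q (by simp)) (colimit.isColimit _))
        (hH q)

include hext hinj in
/-- A bounded below complex with cohomology in the image of `ι` maps quasi-isomorphically to
the image of a bounded below complex whose terms become injective. -/
theorem exists_qis_map (a : ℤ) (K : CochainComplex A ℤ) [K.IsStrictlyGE a]
    (hH : ∀ i, ι.essImage (K.homology i)) :
    ∃ (I : CochainComplex A' ℤ) (f : K ⟶ (ι.mapHomologicalComplex _).obj I), QuasiIso f ∧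
      I.IsStrictlyGE a ∧ ∀ n, Injective (ι.obj (I.X n)) := by
  let Good : A → Prop := fun X => ∃ Y' : A', Injective (ι.obj Y') ∧ Nonempty (ι.obj Y' ≅ X)
  have hzero : ∀ X : A, IsZero X → Good X := fun X hX =>
    ⟨0, Injective.of_iso ((isZero_zero A).iso (ι.map_isZero (isZero_zero A'))) inferInstance,
      ⟨(ι.map_isZero (isZero_zero A')).iso hX⟩⟩
  let St : ℕ → Type (max u v) := fun n =>
    {M : CochainComplex A ℤ // M.IsStrictlyGE a ∧ (∀ i, ι.essImage (M.homology i)) ∧
      ∀ i, i < a + n → Good (M.X i)}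
  have step : ∀ (n : ℕ) (M : St n), ∃ (M' : St (n + 1)) (f : M.1 ⟶ M'.1), QuasiIso f ∧
      ∀ i, i ≠ a + n → i ≠ a + n + 1 → IsIso (f.f i) := by
    intro n ⟨M, hMa, hMH, hMG⟩
    obtain ⟨Z', ⟨eZ⟩⟩ := essImage_cycles ι hext a (a + n) M
      (fun i hi => by obtain ⟨Y', -, e⟩ := hMG i hi; exact ⟨Y', e⟩) hMH
    obtain ⟨Y', m, hm, hY⟩ := hinj Z'
    haveI := hY
    haveI := hm
    let m' : M.cycles (a + n) ⟶ ι.obj Y' := eZ.inv ≫ ι.map m
    haveI : Mono m' := inferInstanceAs (Mono (eZ.inv ≫ ι.map m))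
    let j : M.X (a + n) ⟶ ι.obj Y' := Injective.factorThru m' (M.iCycles (a + n))
    haveI : Mono (biprod.lift (M.d (a + n) (a + n + 1)) j) :=
      Preadditive.mono_of_cancel_zero _ fun {W} x hx => by
        have h₁ : x ≫ M.d (a + n) (a + n + 1) = 0 := by
          have := hx =≫ biprod.fst
          rwa [Category.assoc, biprod.lift_fst, zero_comp] at this
        have h₂ : x ≫ j = 0 := by
          have := hx =≫ biprod.snd
          rwa [Category.assoc, biprod.lift_snd, zero_comp] at this
        have h₃ : M.liftCycles x (a + n + 1) (by simp) h₁ = 0 := by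
          rw [← cancel_mono m', zero_comp, ← h₂,
            show m' = M.iCycles (a + n) ≫ j from (Injective.comp_factorThru _ _).symm,
            HomologicalComplex.liftCycles_i_assoc]
        rw [← M.liftCycles_i x (a + n + 1) (by simp) h₁, h₃, zero_comp]
    obtain ⟨M', f, hf, hfi, ⟨e⟩⟩ := exists_modify_of_mono_lift M (a + n) j
    have hlt : ∀ i, i < a + n → IsIso (f.f i) := fun i hi => hfi i (by omega) (by omega)
    refine ⟨⟨M', ?_, fun i => ?_, fun i hi => ?_⟩, f, hf, hfi⟩
    · rw [CochainComplex.isStrictlyGE_iff]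
      intro i hi
      haveI := hlt i (by omega)
      exact (M.isZero_of_isStrictlyGE a i hi).of_iso (asIso (f.f i)).symm
    · haveI := hf
      exact ι.essImage.prop_of_iso (asIso (HomologicalComplex.homologyMap f i)) (hMH i)
    · by_cases h : i < a + n
      · haveI := hlt i h
        obtain ⟨Y'', hY'', ⟨e'⟩⟩ := hMG i h
        exact ⟨Y'', hY'', ⟨e' ≪≫ asIso (f.f i)⟩⟩
      · obtain rfl : i = a + n := by omega
        exact ⟨Y', hY, ⟨e.symm⟩⟩
  choose M' f hf hfi using step
  let F : ∀ n, St n := fun n =>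
    Nat.rec ⟨K, inferInstance, hH, fun i hi => hzero _ (K.isZero_of_isStrictlyGE a i (by simpa using hi))⟩ M' n
  obtain ⟨L, g, hg, hL⟩ := exists_colim_of_eventually_iso (fun n => (F n).1) (fun n => f n (F n))
    (fun n => hf _ _) (fun i => (i - a + 1).toNat) (fun i n hn => hfi n _ i (by omega) (by omega))
  have hgood : ∀ i, ∃ Y' : A', Injective (ι.obj Y') ∧ Nonempty (ι.obj Y' ≅ L.X i) ∧ (i < a → IsZero Y') := by
    intro i
    by_cases hi : i < a
    · obtain ⟨Y', h₁, h₂⟩ := hzero (L.X i)
        ((K.isZero_of_isStrictlyGE a i hi).of_iso (hL i 0 (by omega)).some.symm)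
      refine ⟨Y', h₁, h₂, fun _ => (IsZero.iff_id_eq_zero _).2 (ι.map_injective ?_)⟩
      exact ((K.isZero_of_isStrictlyGE a i hi).of_iso
        (h₂.some ≪≫ (hL i 0 (by omega)).some.symm)).eq_of_src _ _
    · obtain ⟨Y', h₁, ⟨e⟩⟩ := (F (i - a + 1).toNat).2.2.2 i (by omega)
      exact ⟨Y', h₁, ⟨e ≪≫ (hL i _ le_rfl).some⟩, fun h => absurd h hi⟩
  choose Y' hY' e hz using hgood
  let I : CochainComplex A' ℤ := CochainComplex.of Y'
    (fun i => ι.preimage ((e i).some.hom ≫ L.d i (i + 1) ≫ (e (i + 1)).some.inv))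
    (fun i => ι.map_injective (by simp))
  let φ : (ι.mapHomologicalComplex _).obj I ≅ L := HomologicalComplex.Hom.isoOfComponents
    (fun i => (e i).some) (fun i j hij => by
      obtain rfl : i + 1 = j := hij
      simp [I]
      erw [Category.assoc, Category.assoc, Iso.inv_hom_id, Category.comp_id])
  refine ⟨I, g ≫ φ.inv, inferInstance, ?_, hY'⟩
  rw [CochainComplex.isStrictlyGE_iff]
  exact hz

include hext hinj in
/-- The description of bounded below objects with cohomology in the image of `ι`. -/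
theorem exists_iso_mapDerivedCategory [HasDerivedCategory.{w'} A'] [HasDerivedCategory.{w} A]
    (Z : DerivedCategory A) (a : ℤ) [Z.IsGE a]
    (hZ : ∀ i : ℤ, ι.essImage ((DerivedCategory.homologyFunctor A i).obj Z)) :
    ∃ (I : CochainComplex A' ℤ), I.IsStrictlyGE a ∧ (∀ n : ℤ, Injective (ι.obj (I.X n))) ∧
      Nonempty (ι.mapDerivedCategory.obj (DerivedCategory.Q.obj I) ≅ Z) := by
  obtain ⟨K, hK, ⟨e⟩⟩ := Z.exists_iso_Q_obj_of_isGE a
  haveI := hK
  obtain ⟨I, f, hf, hI, hinjI⟩ := exists_qis_map ι hext hinj a K fun i =>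
    ι.essImage.prop_of_iso ((DerivedCategory.homologyFunctor A i).mapIso e ≪≫
      (DerivedCategory.homologyFunctorFactors A i).app K) (hZ i)
  haveI := hf
  exact ⟨I, hI, hinjI, ⟨ι.mapDerivedCategoryFactors.app I ≪≫ (asIso (DerivedCategory.Q.map f)).symm ≪≫ e.symm⟩⟩

include hext hinj in
/-- `D(A') ⟶ D(A)` is fully faithful on maps into bounded below objects. -/
theorem bijective_mapDerivedCategory [HasDerivedCategory.{w'} A'] [HasDerivedCategory.{w} A]
    (X Y : DerivedCategory A') (b : ℤ) [Y.IsGE b] :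
    Function.Bijective (fun f : X ⟶ Y => ι.mapDerivedCategory.map f) := by
  obtain ⟨K₀, hK₀, ⟨e₀⟩⟩ := Y.exists_iso_Q_obj_of_isGE b
  haveI := hK₀
  let J : CochainComplex A ℤ := (ι.mapHomologicalComplex (ComplexShape.up ℤ)).obj K₀
  haveI : J.IsStrictlyGE b := by
    rw [CochainComplex.isStrictlyGE_iff]
    exact fun i hi => ι.map_isZero (K₀.isZero_of_isStrictlyGE b i hi)
  obtain ⟨I, f, hf, hIb, hIinj⟩ := exists_qis_map ι hext hinj b J fun i =>
    ⟨K₀.homology i, ⟨((K₀.sc i).mapHomologyIso ι).symm⟩⟩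
  haveI := hIinj
  haveI : ∀ n, Injective (((ι.mapHomologicalComplex (ComplexShape.up ℤ)).obj I).X n) := hIinj
  haveI : CochainComplex.IsStrictlyGE ((ι.mapHomologicalComplex (ComplexShape.up ℤ)).obj I) b := by
    rw [CochainComplex.isStrictlyGE_iff]
    exact fun i hi => ι.map_isZero (I.isZero_of_isStrictlyGE b i hi)
  haveI : ∀ n, Injective (I.X n) := fun n => ⟨fun {X Y} g m _ => by
    obtain ⟨h, hh⟩ := (hIinj n).factors (ι.map g) (ι.map m)
    exact ⟨ι.preimage h, ι.map_injective (by simpa using hh)⟩⟩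
  haveI := CochainComplex.isKInjective_of_injective I b
  haveI := CochainComplex.isKInjective_of_injective ((ι.mapHomologicalComplex (ComplexShape.up ℤ)).obj I) b
  let f' : K₀ ⟶ I := (ι.mapHomologicalComplex _).preimage f
  haveI : QuasiIso f' := by
    rw [← quasiIso_map_iff_of_preservesHomology f' ι, (ι.mapHomologicalComplex _).map_preimage]
    exact hf
  let eY : Y ≅ DerivedCategory.Q.obj I := e₀ ≪≫ asIso (DerivedCategory.Q.map f')
  let eX : DerivedCategory.Q.obj (DerivedCategory.Q.objPreimage X) ≅ X := DerivedCategory.Q.objObjPreimageIso X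
  let K := DerivedCategory.Q.objPreimage X
  have hQ : ∀ u : DerivedCategory.Q.obj K ⟶ DerivedCategory.Q.obj I,
      ∃ g : K ⟶ I, DerivedCategory.Q.map g = u := fun u => by
    obtain ⟨φ, hφ⟩ := (CochainComplex.IsKInjective.Qh_map_bijective
      (K := (HomotopyCategory.quotient _ _).obj K) (L := I)).2
        ((DerivedCategory.quotientCompQhIso A').hom.app K ≫ u ≫ (DerivedCategory.quotientCompQhIso A').inv.app I)
    obtain ⟨g, rfl⟩ := (HomotopyCategory.quotient _ _).map_surjective φ
    refine ⟨g, ?_⟩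
    rw [← cancel_epi ((DerivedCategory.quotientCompQhIso A').hom.app K), ← NatTrans.naturality,
      Functor.comp_map, hφ]
    simp
  have hQzero : ∀ g : K ⟶ I, (ι.mapDerivedCategory.map (DerivedCategory.Q.map g) = 0) →
      DerivedCategory.Q.map g = 0 := fun g hg => by
    have h := ι.mapDerivedCategoryFactors.hom.naturality g
    rw [Functor.comp_map, hg, zero_comp, Functor.comp_map] at h
    have h' : DerivedCategory.Q.map ((ι.mapHomologicalComplex (ComplexShape.up ℤ)).map g) = 0 := by
      rw [← cancel_epi (ι.mapDerivedCategoryFactors.hom.app K), comp_zero]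
      exact h.symm
    have hh : (HomotopyCategory.quotient _ _).map ((ι.mapHomologicalComplex (ComplexShape.up ℤ)).map g) = 0 := by
      apply (CochainComplex.IsKInjective.Qh_map_bijective _ _).1
      rw [DerivedCategory.Qh.map_zero,
        ← cancel_epi ((DerivedCategory.quotientCompQhIso A).inv.app _), comp_zero]
      exact ((DerivedCategory.quotientCompQhIso A).inv.naturality _).symm.trans (by rw [h']; exact zero_comp)
    obtain ⟨H⟩ : Nonempty (Homotopy ((ι.mapHomologicalComplex (ComplexShape.up ℤ)).map g) 0) :=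
      ⟨HomotopyCategory.homotopyOfEq _ _ (hh.trans ((HomotopyCategory.quotient A (ComplexShape.up ℤ)).map_zero _ _).symm)⟩
    have H' : Homotopy g 0 :=
      { hom := fun i j => ι.preimage (H.hom i j)
        zero := fun i j hij => ι.map_injective ((ι.map_preimage _).trans ((H.zero i j hij).trans (ι.map_zero _ _).symm))
        comm := fun i => ι.map_injective (by
          have := H.comm i
          simp only [Functor.mapHomologicalComplex_map_f, HomologicalComplex.zero_f] at this
          rw [this]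
          simp [dNext, prevD, Functor.map_add]
          rfl) }
    have e := HomotopyCategory.eq_of_homotopy _ _ H'
    rw [← cancel_epi ((DerivedCategory.quotientCompQhIso A').hom.app K), ← NatTrans.naturality,
      Functor.comp_map, e, Functor.map_zero, Functor.map_zero, zero_comp, comp_zero]
  constructor
  · intro u₁ u₂ h
    rw [← sub_eq_zero]
    obtain ⟨g, hg⟩ := hQ (eX.hom ≫ (u₁ - u₂) ≫ eY.hom)
    have := hQzero g (by
      rw [hg]
      simp only [Functor.map_comp, Functor.map_sub, show ι.mapDerivedCategory.map u₁ = ι.mapDerivedCategory.map u₂ from h]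
      simp)
    rw [hg] at this
    calc u₁ - u₂ = eX.inv ≫ (eX.hom ≫ (u₁ - u₂) ≫ eY.hom) ≫ eY.inv := by simp
      _ = 0 := by rw [this]; simp
  · intro w
    let w' : DerivedCategory.Q.obj ((ι.mapHomologicalComplex (ComplexShape.up ℤ)).obj K) ⟶
        DerivedCategory.Q.obj ((ι.mapHomologicalComplex (ComplexShape.up ℤ)).obj I) :=
      ι.mapDerivedCategoryFactors.inv.app K ≫ ι.mapDerivedCategory.map eX.hom ≫ w ≫
        ι.mapDerivedCategory.map eY.hom ≫ ι.mapDerivedCategoryFactors.hom.app I
    obtain ⟨φ, hφ⟩ := (CochainComplex.IsKInjective.Qh_map_bijective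
      (K := (HomotopyCategory.quotient _ _).obj ((ι.mapHomologicalComplex (ComplexShape.up ℤ)).obj K))
      (L := (ι.mapHomologicalComplex (ComplexShape.up ℤ)).obj I)).2
        ((DerivedCategory.quotientCompQhIso A).hom.app _ ≫ w' ≫ (DerivedCategory.quotientCompQhIso A).inv.app _)
    obtain ⟨g₀, rfl⟩ := (HomotopyCategory.quotient _ _).map_surjective φ
    let g : K ⟶ I := (ι.mapHomologicalComplex _).preimage g₀
    have hw : DerivedCategory.Q.map g₀ = w' := by
      rw [← cancel_epi ((DerivedCategory.quotientCompQhIso A).hom.app _), ← NatTrans.naturality,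
        Functor.comp_map, hφ]
      simp
    refine ⟨eX.inv ≫ DerivedCategory.Q.map g ≫ eY.inv, ?_⟩
    have hn := ι.mapDerivedCategoryFactors.hom.naturality g
    simp only [Functor.comp_map, g, Functor.map_preimage, hw, w', Iso.hom_inv_id_app_assoc] at hn
    simp only [Functor.map_comp]
    rw [← cancel_epi (ι.mapDerivedCategory.map eX.hom), ← cancel_mono (ι.mapDerivedCategory.map eY.hom),
      ← cancel_mono (ι.mapDerivedCategoryFactors.hom.app I)]
    simp only [← Functor.map_comp_assoc, Category.assoc, Iso.inv_hom_id, Functor.map_id,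
      Iso.hom_inv_id_assoc, Category.id_comp]
    simpa [g] using hn

end Groth.Agent.H16Derived.Res
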